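import Cfsg.Agent.SympTwo.Normal
import Cfsg.Agent.MatModule.ClassNumberSp
import Cfsg.Agent.MatModule.SympPoly

/-!
# The class number of the symplectic groups in characteristic two
-/

set_option autoImplicit false

namespace Cfsg.Agent.SympTwo

open Module Polynomial Matrix
open Cfsg.Agent.ClassNumberGL Cfsg.Agent.SympConj Cfsg.Agent.USeq Cfsg.Agent.FormClass Cfsg.Agent.Classical

universe u

variable {F : Type u} [Field F]

/-! ## Self-reciprocal polynomials without the root one -/

theorem eval_one_selfRec (h2 : (2 : F) = 0) {f : F[X]} (hf : SelfRec f) :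
    f.coeff 0 = 1 ∧ f.eval 1 = if Even f.natDegree then f.coeff (f.natDegree / 2) else 0 := by
  have h0 : f.coeff 0 = 1 := by
    rcases coeff_zero_sq hf with h | h
    · exact h
    · rw [h]; linear_combination -h2
  refine ⟨h0, ?_⟩
  set D := f.natDegree with hD
  have hsym : ∀ i ≤ D, f.coeff (D - i) = f.coeff i := fun i hi => by
    rw [coeff_rec hf hi, h0, one_mul]
  rw [eval_eq_sum_range]
  simp only [one_pow, mul_one]
  have hpair : ∀ a : F, a + a = 0 := fun a => by linear_combination a * h2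
  rcases Nat.even_or_odd' D with ⟨d, hd | hd⟩
  · rw [if_pos ⟨d, by omega⟩, show D / 2 = d by omega,
      ← Finset.add_sum_erase _ (fun i => f.coeff i) (Finset.mem_range.2 (show d < D + 1 by omega))]
    refine add_eq_left.2 (Finset.sum_involution (fun i _ => D - i) (fun i hi => ?_) (fun i hi _ => ?_)
      (fun i hi => ?_) (fun i hi => ?_))
    · simp only [Finset.mem_erase, Finset.mem_range] at hi
      rw [hsym i (by omega)]; exact hpair _
    · simp only [Finset.mem_erase, Finset.mem_range] at hi; omega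
    · simp only [Finset.mem_erase, Finset.mem_range] at hi ⊢; omega
    · simp only [Finset.mem_erase, Finset.mem_range] at hi; omega
  · rw [if_neg (by rw [hd]; simp [parity_simps])]
    refine Finset.sum_involution (fun i _ => D - i) (fun i hi => ?_) (fun i hi _ => ?_)
      (fun i hi => ?_) (fun i hi => ?_)
    · simp only [Finset.mem_range] at hi
      rw [hsym i (by omega)]; exact hpair _
    · simp only [Finset.mem_range] at hi; omega
    · simp only [Finset.mem_range] at hi ⊢; omega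
    · simp only [Finset.mem_range] at hi; omega

/-- The polynomial in `X + X⁻¹` read off from the lower coefficients. -/
noncomputable def half (f : F[X]) : F[X] :=
  X ^ (f.natDegree / 2) + ∑ l ∈ Finset.range (f.natDegree / 2), monomial l (f.coeff (f.natDegree / 2 - l))

theorem half_props (h2 : (2 : F) = 0) {f : F[X]} (hf : SelfRec f) (h1 : f.eval 1 ≠ 0) :
    (half f).Monic ∧ (half f).natDegree = f.natDegree / 2 ∧ (half f).coeff 0 ≠ 0 ∧ Even f.natDegree ∧
      ∀ g : F[X], SelfRec g → g.eval 1 ≠ 0 → half g = half f → g = f := by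
  have hcoef : ∀ (g : F[X]) (l : ℕ), l < g.natDegree / 2 → (half g).coeff l = g.coeff (g.natDegree / 2 - l) := by
    intro g l hl
    simp [half, coeff_X_pow, coeff_monomial, hl.ne, hl]
  have hdeg : ∀ g : F[X], (half g).Monic ∧ (half g).natDegree = g.natDegree / 2 := by
    intro g
    have hlt : (∑ l ∈ Finset.range (g.natDegree / 2), monomial l (g.coeff (g.natDegree / 2 - l))).degree <
        (g.natDegree / 2 : ℕ) :=
      (degree_sum_le _ _).trans_lt ((Finset.sup_lt_iff (WithBot.bot_lt_coe _)).2 fun l hl =>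
        (degree_monomial_le _ _).trans_lt (Nat.cast_lt.2 (Finset.mem_range.1 hl)))
    refine ⟨monic_X_pow_add hlt, ?_⟩
    rw [half, natDegree_eq_of_degree_eq_some]
    rw [degree_add_eq_left_of_degree_lt (by rwa [degree_X_pow]), degree_X_pow]
  obtain ⟨h0, he⟩ := eval_one_selfRec h2 hf
  have hev : Even f.natDegree := by
    by_contra h; rw [if_neg h] at he; exact h1 he
  refine ⟨(hdeg f).1, (hdeg f).2, ?_, hev, fun g hg hg1 h => ?_⟩
  · rcases Nat.eq_zero_or_pos (f.natDegree / 2) with hz | hz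
    · rw [← hz, ← (hdeg f).2, (hdeg f).1.coeff_natDegree]; exact one_ne_zero
    · rw [hcoef f 0 hz, Nat.sub_zero]
      rwa [he, if_pos hev] at h1
  · obtain ⟨g0, ge⟩ := eval_one_selfRec h2 hg
    have gev : Even g.natDegree := by
      by_contra h'; rw [if_neg h'] at ge; exact hg1 ge
    have hd : g.natDegree = f.natDegree := by
      have := congrArg natDegree h
      rw [(hdeg g).2, (hdeg f).2] at this
      rcases hev with ⟨a, ha⟩; rcases gev with ⟨b, hb⟩
      omega
    refine eq_of_low hg hf hd fun i hi => ?_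
    rcases Nat.eq_zero_or_pos i with rfl | hi0
    · rw [g0, h0]
    · have e := congrArg (fun p => coeff p (g.natDegree / 2 - i)) h
      simp only [hcoef g _ (show g.natDegree / 2 - i < g.natDegree / 2 by omega),
        hcoef f _ (show g.natDegree / 2 - i < f.natDegree / 2 by omega)] at e
      rwa [← hd, show g.natDegree / 2 - (g.natDegree / 2 - i) = i by omega] at e

/-- Sequences are unchanged by conjugation. -/
theorem hasSeq_of_conj {W₁ W₂ : Type u} [AddCommGroup W₁] [Module F W₁] [AddCommGroup W₂] [Module F W₂]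
    [FiniteDimensional F W₁] [FiniteDimensional F W₂]
    {φ : Module.End F W₁} {ψ : Module.End F W₂} (e : W₁ ≃ₗ[F] W₂) (he : ∀ x, e (φ x) = ψ (e x))
    {n : ℕ} {g : Fin n → F[X]} (h : HasSeq ψ n g) : HasSeq φ n g := by
  classical
  obtain ⟨ι, hι, p, ex, hp, hex, ⟨E⟩, hprod⟩ := h
  let f : Module.AEval' φ →ₗ[F[X]] Module.AEval' ψ :=
    LinearMap.ofAEval φ ((Module.AEval'.of ψ).toLinearMap ∘ₗ e.toLinearMap) fun m => by
      simp [Module.AEval'.X_smul_of, he]
  have hf : Function.Bijective f := by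
    have : (f : Module.AEval' φ → Module.AEval' ψ) =
        (Module.AEval'.of ψ) ∘ e ∘ (Module.AEval'.of φ).symm := rfl
    rw [this]
    exact (Module.AEval'.of ψ).bijective.comp (e.bijective.comp (Module.AEval'.of φ).symm.bijective)
  exact ⟨ι, hι, p, ex, hp, hex, ⟨(LinearEquiv.ofBijective f hf).trans E⟩, hprod⟩

/-! ## The invariant -/

variable [Fintype F] {V : Type u} [AddCommGroup V] [Module F V] [FiniteDimensional F V]
variable {B : LinearMap.BilinForm F V}

omit [Fintype F] in
theorem exists_ctx (h2 : (2 : F) = 0) {a : Module.End F V} (hB : Good B a) (hn : ∃ d, (a - 1) ^ d = 0) :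
    ∃ C : Ctx F V, C.B = B ∧ C.φ = a := by
  let e := LinearEquiv.ofBijective a ⟨hB.injective, LinearMap.injective_iff_surjective.1 hB.injective⟩
  exact ⟨⟨B, a, e.symm.toLinearMap, h2, hB.alt, hB.sep, hB.pres,
    LinearMap.ext fun x => e.apply_symm_apply x, LinearMap.ext fun x => e.symm_apply_apply x, hn⟩, rfl, rfl⟩

/-- The invariant of an isometry. -/
def Inv (B : LinearMap.BilinForm F V) (a₀ : F) (a : Module.End F V) (n : ℕ) (L : List Blk) (h : List F[X]) :
    Prop :=
  ∃ (K P : Submodule F V) (hS : Split (1 : F) a K P) (C : Ctx F K) (g : Seqs F 1 (finrank F P) (finrank F P)),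
    C.B = B.restrict K ∧ C.φ = a.restrict hS.invK ∧ C.HasForm a₀ L ⊤ ∧
    finrank F K = 2 * wts L ∧ finrank F P = 2 * (n - wts L) ∧ wts L ≤ n ∧
    HasSeq (a.restrict hS.invP) (finrank F P) g.1 ∧
    (∀ j, SelfRec (g.1 j) ∧ (g.1 j).eval 1 ≠ 0) ∧ h = List.ofFn fun j => half (g.1 j)

theorem exists_inv (h2 : (2 : F) = 0) {a₀ : F} (ha : IsASRep a₀) {a : Module.End F V} (hB : Good B a) {n : ℕ}
    (hn : finrank F V = 2 * n) :
    ∃ L h, Adm L ∧ Inv B a₀ a n L h ∧
      ∃ g : Seqs F 1 (n - wts L) (2 * (n - wts L)), h = List.ofFn g.1 := by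
  classical
  have hc : (-1 : F) * (-1) = 1 := by ring
  obtain ⟨K, P, hS⟩ := exists_decomp a (1 : F)
  obtain ⟨hK, hP⟩ := hS.signed (one_mul 1) hc hB.signed
  have hKgood : Good (B.restrict K) (a.restrict hS.invK) := ⟨fun x => hB.alt x.1, hK.sep, hK.pres⟩
  obtain ⟨d, hd⟩ := hS.nilpotent (one_mul 1)
  obtain ⟨Cx, hCB, hCφ⟩ := exists_ctx h2 hKgood ⟨d, by rwa [one_smul] at hd⟩
  obtain ⟨L, hL, hform⟩ := Cx.exists_form ha _ Cx.piece_top rfl
  have hKdim : finrank F K = 2 * wts L := by
    rw [← Cx.finrank_eq Cx.piece_top hform, finrank_top]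
  have hsum := Submodule.finrank_add_eq_of_isCompl hS.compl
  have hPdim : finrank F P = 2 * (n - wts L) := by omega
  obtain ⟨g, hg⟩ := exists_seq (a.restrict hS.invP) hP.injective
  have hprop : ∀ j, SelfRec (g.1 j) ∧ (g.1 j).eval 1 ≠ 0 := by
    intro j
    refine ⟨⟨(g.2.1 j).1, (g.2.1 j).2, dual_fix_signed hc hP hg j⟩, fun h => ?_⟩
    have hdvd : X - C (1 : F) ∣ g.1 j := dvd_iff_isRoot.2 h
    have hk := ClassSeq.finrank_ker hg (monic_X_sub_C (1 : F)) (irreducible_X_sub_C 1) 1
    have h0 : LinearMap.ker (aeval (a.restrict hS.invP) ((X - C (1 : F)) ^ 1)) = ⊥ := by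
      refine (Submodule.eq_bot_iff _).2 fun x hx => Subtype.ext (hS.inj x.1 x.2 ?_)
      rw [LinearMap.mem_ker, pow_one, map_sub, aeval_X, aeval_C, LinearMap.sub_apply, sub_eq_zero] at hx
      simpa using congrArg Subtype.val hx
    rw [h0, finrank_bot, natDegree_X_sub_C, one_mul, eq_comm, Finset.sum_eq_zero_iff] at hk
    have h1 := hk j (Finset.mem_univ _)
    rw [min_eq_right (by omega), one_mul, Multiset.count_eq_zero] at h1
    obtain ⟨r, hr, hrd⟩ := UniqueFactorizationMonoid.exists_mem_normalizedFactors_of_dvd (g.2.1 j).1.ne_zero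
      (irreducible_X_sub_C (1 : F)) hdvd
    have hrm : r.Monic := by
      rw [← UniqueFactorizationMonoid.normalize_normalized_factor _ hr]
      exact monic_normalize (UniqueFactorizationMonoid.irreducible_of_normalized_factor _ hr).ne_zero
    exact h1 (eq_of_monic_of_associated (monic_X_sub_C 1) hrm hrd ▸ hr)
  refine ⟨L, _, hL, ⟨K, P, hS, Cx, g, hCB, hCφ, hform, hKdim, hPdim, by omega, hg, hprop, rfl⟩, ?_⟩
  refine ⟨⟨fun j => half (g.1 (Fin.cast hPdim.symm j)), fun j => ?_, ?_⟩, ?_⟩
  · obtain ⟨e1, -, e3, -⟩ := half_props h2 (hprop (Fin.cast hPdim.symm j)).1 (hprop _).2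
    exact ⟨e1, e3⟩
  · have h : ∑ i : Fin (finrank F P), (1 + (i : ℕ)) * (2 * (half (g.1 i)).natDegree) = finrank F P := by
      refine (Finset.sum_congr rfl fun i _ => ?_).trans g.2.2
      obtain ⟨-, e2, -, ⟨r, hr⟩, -⟩ := half_props h2 (hprop i).1 (hprop i).2
      rw [e2]
      congr 1
      omega
    have h' : ∑ i : Fin (finrank F P), (1 + (i : ℕ)) * (half (g.1 i)).natDegree = n - wts L := by
      have : 2 * ∑ i : Fin (finrank F P), (1 + (i : ℕ)) * (half (g.1 i)).natDegree = 2 * (n - wts L) := by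
        rw [Finset.mul_sum, ← hPdim]
        refine Eq.trans (Finset.sum_congr rfl fun i _ => ?_) h
        ring
      omega
    exact (Fintype.sum_equiv (finCongr hPdim.symm) _ _ fun i => rfl).trans h'
  · exact List.ext_getElem (by simp [hPdim]) fun i h1 h2 => by simp

theorem conj_of_inv (h2 : (2 : F) = 0) {a₀ : F} {a b : Module.End F V} (hB : Good B a) (hB' : Good B b)
    {n : ℕ} {L : List Blk} {h : List F[X]} (ha : Inv B a₀ a n L h) (hb : Inv B a₀ b n L h) :
    ∃ Θ : V ≃ₗ[F] V, (∀ x y, B (Θ x) (Θ y) = B x y) ∧ ∀ x, Θ (a x) = b (Θ x) := by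
  classical
  obtain ⟨K, P, hS, C, g, hCB, hCφ, hf, hK, hP, hw, hg, hgp, rfl⟩ := ha
  obtain ⟨K', P', hS', C', g', hCB', hCφ', hf', hK', hP', -, hg', hgp', e⟩ := hb
  have hc : (-1 : F) * (-1) = 1 := by ring
  -- the unipotent parts
  obtain ⟨θ, -, hθN, hθB, -⟩ := isoOn_of_form C C' C.piece_top C'.piece_top hf hf'
  have hθinj : Function.Injective θ := (injective_iff_map_eq_zero θ).2 fun x hx => C.sep x fun y => by
    rw [← hθB x trivial y trivial, hx, map_zero, LinearMap.zero_apply]
  let eK : K ≃ₗ[F] K' := LinearEquiv.ofBijective θ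
    ⟨hθinj, (LinearMap.injective_iff_surjective_of_finrank_eq_finrank (hK.trans hK'.symm)).1 hθinj⟩
  have hKB : ∀ x y : K, B (eK x).1 (eK y).1 = B x.1 y.1 := fun x y => by
    have := hθB x trivial y trivial
    rw [hCB, hCB'] at this
    exact this
  have hKa : ∀ x : K, (eK (a.restrict hS.invK x)).1 = b (eK x).1 := fun x => by
    have h1 := hθN x trivial
    rw [C.N_apply, C'.N_apply, map_add, hCφ, hCφ'] at h1
    exact congrArg Subtype.val (add_right_cancel h1)
  -- the parts without the eigenvalue one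
  obtain ⟨-, hBP⟩ := hS.signed (one_mul 1) hc hB.signed
  obtain ⟨-, hBP'⟩ := hS'.signed (one_mul 1) hc hB'.signed
  let eP0 : P ≃ₗ[F] P' := LinearEquiv.ofFinrankEq _ _ (hP.trans hP'.symm)
  have hdim : finrank F P' = finrank F P := hP'.trans hP.symm
  have hgg : ∀ j : Fin (finrank F P), g.1 j = g'.1 (Fin.cast hdim.symm j) := fun j => by
    have e1 : half (g.1 j) = half (g'.1 (Fin.cast hdim.symm j)) := by
      have := congrArg (fun l : List F[X] => l[(j : ℕ)]?) e
      simpa [List.getElem?_ofFn, hdim] using this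
    exact (half_props h2 (hgp' _).1 (hgp' _).2).2.2.2.2 _ (hgp j).1 (hgp j).2 e1
  have key : ∀ (p p' : ℕ) (g : Fin p → F[X]) (g' : Fin p' → F[X]) (e : p' = p),
      (∀ j, g j = g' (Fin.cast e.symm j)) → HasSeq (b.restrict hS'.invP) p' g' → HasSeq (b.restrict hS'.invP) p g := by
    intro p p' g g' e hgg hh
    subst e
    rwa [show g = g' from funext hgg]
  have hg2 := key _ _ g.1 g'.1 hdim hgg hg'
  set a' : Module.End F P := eP0.symm.toLinearMap ∘ₗ b.restrict hS'.invP ∘ₗ eP0.toLinearMap with ha'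
  have hseq : HasSeq a' (finrank F P) g.1 := hasSeq_of_conj eP0 (fun x => by simp [a']) hg2
  obtain ⟨Θ, hΘ⟩ := conj_of_hasSeq _ _ hg hseq
  set e1 : P ≃ₗ[F] P' := Θ.trans eP0
  have he1 : ∀ x, e1 (a.restrict hS.invP x) = b.restrict hS'.invP (e1 x) := fun x => by
    simp [e1, hΘ, a']
  set S' : LinearMap.BilinForm F P := (B.restrict P').comp e1.toLinearMap e1.toLinearMap
  have hS'2 : Signed (-1) S' (a.restrict hS.invP) :=
    ⟨fun x y => hBP'.flip _ _, fun x hx => e1.map_eq_zero_iff.1 (hBP'.sep _ fun y => by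
      obtain ⟨y, rfl⟩ := e1.surjective y; exact hx y), fun x y => by
      change (B.restrict P') (e1 (a.restrict hS.invP x)) (e1 (a.restrict hS.invP y)) = _
      rw [he1, he1]; exact hBP'.pres _ _⟩
  have hinj : Function.Injective (a.restrict hS.invP - 1 : Module.End F P) :=
    (injective_iff_map_eq_zero _).2 fun z hz => by
      refine Subtype.ext (hS.inj _ z.2 ?_)
      rw [LinearMap.sub_apply, Module.End.one_apply, sub_eq_zero] at hz
      rw [one_smul]; exact congrArg Subtype.val hz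
  have hinj' : Function.Injective (a.restrict hS.invP + 1 : Module.End F P) := by
    have : (a.restrict hS.invP + 1 : Module.End F P) = a.restrict hS.invP - 1 := LinearMap.ext fun x => by
      rw [LinearMap.add_apply, LinearMap.sub_apply, sub_eq_add_neg, ← neg_one_smul F, show (-1 : F) = 1 by
        linear_combination -h2, one_smul]
    rwa [this]
  obtain ⟨y, hyc, hy⟩ := exists_of_injective hc hBP hS'2 hinj hinj'
  have hyinj := injective_of_comp hS'2 hy
  let Y := LinearEquiv.ofBijective y ⟨hyinj, LinearMap.injective_iff_surjective.1 hyinj⟩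
  let eP : P ≃ₗ[F] P' := Y.symm.trans e1
  have hPB : ∀ x z : P, B (eP x).1 (eP z).1 = B x.1 z.1 := fun x z => by
    obtain ⟨x, rfl⟩ := Y.surjective x
    obtain ⟨z, rfl⟩ := Y.surjective z
    show (B.restrict P') (e1 (Y.symm (Y x))) (e1 (Y.symm (Y z))) = _
    rw [LinearEquiv.symm_apply_apply, LinearEquiv.symm_apply_apply]
    exact (hy x z).symm
  have hPa : ∀ x : P, (eP (a.restrict hS.invP x)).1 = b (eP x).1 := fun x => by
    obtain ⟨x, rfl⟩ := Y.surjective x
    have : Y.symm (a.restrict hS.invP (Y x)) = a.restrict hS.invP x := by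
      apply Y.injective
      rw [LinearEquiv.apply_symm_apply]
      exact (LinearMap.congr_fun hyc.eq x).symm
    show (e1 (Y.symm (a.restrict hS.invP (Y x)))).1 = b (e1 (Y.symm (Y x))).1
    rw [this, he1, LinearEquiv.symm_apply_apply]
    rfl
  -- glue
  let E := Submodule.prodEquivOfIsCompl K P hS.compl
  let E' := Submodule.prodEquivOfIsCompl K' P' hS'.compl
  let Φ := E.symm.trans ((eK.prodCongr eP).trans E')
  have hΦ : ∀ (u : K) (p : P), Φ (u.1 + p.1) = (eK u).1 + (eP p).1 := fun u p => by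
    have h1 : E (u, p) = u.1 + p.1 := by simp [E]
    rw [← h1]
    simp [Φ, E']
  have hdec : ∀ x : V, ∃ (u : K) (p : P), x = u.1 + p.1 := fun x =>
    ⟨(E.symm x).1, (E.symm x).2, by
      conv_lhs => rw [← E.apply_symm_apply x]
      simp [E]⟩
  refine ⟨Φ, fun x z => ?_, fun x => ?_⟩
  · obtain ⟨u, p, rfl⟩ := hdec x
    obtain ⟨u', p', rfl⟩ := hdec z
    rw [hΦ, hΦ]
    simp only [map_add, LinearMap.add_apply, hKB, hPB, (hS'.orth (one_mul 1) hc hB'.signed _ (eK u).2 _ (eP p').2).1,
      (hS'.orth (one_mul 1) hc hB'.signed _ (eK u').2 _ (eP p).2).2,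
      (hS.orth (one_mul 1) hc hB.signed _ u.2 _ p'.2).1, (hS.orth (one_mul 1) hc hB.signed _ u'.2 _ p.2).2]
  · obtain ⟨u, p, rfl⟩ := hdec x
    rw [map_add a, show a u.1 = (a.restrict hS.invK u).1 from rfl, show a p.1 = (a.restrict hS.invP p).1 from rfl,
      hΦ, hΦ, hKa, hPa, map_add b]

end Cfsg.Agent.SympTwo

namespace Cfsg.Agent.SympTwo

open Module Polynomial Matrix
open Cfsg.Agent.ClassNumberGL Cfsg.Agent.SympConj Cfsg.Agent.Classical

variable {F : Type*} [Field F] [Fintype F] {n : ℕ}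

omit [Fintype F] in
theorem good_symplectic (A : Matrix.symplecticGroup (Fin n) F) : Good (sympB n F) (Matrix.toLin' A.1) :=
  ⟨sympB_isAlt, fun x hx => sympB_nondeg.1 x hx, fun x y => by
    rw [Matrix.toLin'_apply, Matrix.toLin'_apply]; exact (mem_symplectic_iff A.1).1 A.2 x y⟩

omit [Fintype F] in
theorem isConj_of_isometry (A A' : Matrix.symplecticGroup (Fin n) F) (Θ : (Fin n ⊕ Fin n → F) ≃ₗ[F] _)
    (hB : ∀ x y, sympB n F (Θ x) (Θ y) = sympB n F x y) (h : ∀ x, Θ (A.1 *ᵥ x) = A'.1 *ᵥ Θ x) : IsConj A A' := by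
  let U : Alt.isoGroup (sympB n F) := ⟨Θ, hB⟩
  refine isConj_iff.2 ⟨(spEquiv n F).symm U, ?_⟩
  rw [mul_inv_eq_iff_eq_mul]
  refine Subtype.ext (Matrix.ext_of_mulVec_single fun i => ?_)
  rw [Submonoid.coe_mul, Submonoid.coe_mul, ← Matrix.mulVec_mulVec, ← Matrix.mulVec_mulVec,
    spEquiv_symm_mulVec, spEquiv_symm_mulVec]
  exact h _

/-- The class number of `Sp (2n, q)`, `q` even, is at most `15.2 q ^ n`. -/
theorem five_mul_card_conjClasses_le (h2 : (2 : F) = 0) :
    5 * Nat.card (ConjClasses (Matrix.symplecticGroup (Fin n) F)) ≤ 76 * Fintype.card F ^ n := by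
  classical
  obtain ⟨a₀, ha⟩ := exists_asRep (F := F) h2
  set q := Fintype.card F
  have hq : 2 ≤ q := Fintype.one_lt_card
  set G := Matrix.symplecticGroup (Fin n) F
  choose L h hL hI g hg using fun A : G =>
    exists_inv h2 ha (good_symplectic A) (n := n) finrank_symp
  haveI : Fintype (ConjClasses G) := Fintype.ofFinite _
  set s : Finset (List Blk) := Finset.univ.image fun c : ConjClasses G => L c.out with hs
  let Φ : ConjClasses G → Σ L : s, Seqs F 1 (n - wts L.1) (2 * (n - wts L.1)) := fun c =>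
    ⟨⟨L c.out, Finset.mem_image.2 ⟨c, Finset.mem_univ _, rfl⟩⟩, g c.out⟩
  haveI : ∀ L : s, Finite (Seqs F 1 (n - wts L.1) (2 * (n - wts L.1))) := fun L => (seqs_le _ 1 _ le_rfl).1
  have hΦ : Function.Injective Φ := by
    intro c d e
    have e1 : L c.out = L d.out :=
      congrArg (fun x : Σ L : s, Seqs F 1 (n - wts L.1) (2 * (n - wts L.1)) => x.1.1) e
    have e2 : h c.out = h d.out := by
      rw [hg, hg]
      exact congrArg (fun x : Σ L : s, Seqs F 1 (n - wts L.1) (2 * (n - wts L.1)) => List.ofFn x.2.1) e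
    obtain ⟨Θ, hB, hΘ⟩ := conj_of_inv h2 (good_symplectic c.out) (good_symplectic d.out) (hI c.out)
      (e1.symm ▸ e2.symm ▸ hI d.out)
    rw [← Quotient.out_eq c, ← Quotient.out_eq d]
    exact ConjClasses.mk_eq_mk_iff_isConj.2 (isConj_of_isometry _ _ Θ hB fun x => by
      rw [← Matrix.toLin'_apply, hΘ, Matrix.toLin'_apply])
  have hwle : ∀ A, wts (L A) ≤ n := fun A => by
    obtain ⟨K, P, hS, C, g, -, -, -, -, -, hw, -⟩ := hI A
    exact hw
  have h1 : Nat.card (ConjClasses G) ≤ ∑ L : s, q ^ (n - wts L.1) := by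
    refine (Nat.card_le_card_of_injective Φ hΦ).trans ?_
    rw [Nat.card_sigma]
    exact Finset.sum_le_sum fun L _ => ((seqs_le _ 1 _ le_rfl).2).trans (AA_one_le (by omega) _)
  have h2' : (5 : ℚ) * Nat.card (ConjClasses G) ≤ 76 * (q : ℚ) ^ n := by
    calc (5 : ℚ) * Nat.card (ConjClasses G) ≤ 5 * ∑ L : s, (q : ℚ) ^ (n - wts L.1) := by
          gcongr; exact_mod_cast h1
      _ ≤ 5 * ∑ L : s, (q : ℚ) ^ n * sw L.1 := by
          gcongr with L _
          obtain ⟨c, -, hc⟩ := Finset.mem_image.1 L.2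
          have hw : wts L.1 ≤ n := hc ▸ hwle _
          have hqq : (2 : ℚ) ^ wts L.1 ≤ (q : ℚ) ^ wts L.1 := pow_le_pow_left₀ (by norm_num) (by exact_mod_cast hq) _
          rw [sw, one_div, inv_pow, le_mul_inv_iff₀ (by positivity)]
          calc (q : ℚ) ^ (n - wts L.1) * 2 ^ wts L.1 ≤ (q : ℚ) ^ (n - wts L.1) * (q : ℚ) ^ wts L.1 := by gcongr
            _ = _ := by rw [← pow_add, Nat.sub_add_cancel hw]
      _ ≤ 5 * ((q : ℚ) ^ n * (76 / 5)) := by
          rw [← Finset.mul_sum, Finset.sum_coe_sort s sw]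
          gcongr
          refine sum_sw_le s fun L' hL' => ?_
          obtain ⟨c, -, rfl⟩ := Finset.mem_image.1 hL'
          exact hL _
      _ = _ := by ring
  exact_mod_cast h2'

/-- The class number of `Sp (2n, q)` is at least `q ^ n`. -/
theorem pow_le_card_conjClasses (hn : 1 ≤ n) :
    Fintype.card F ^ n ≤ Nat.card (ConjClasses (Matrix.symplecticGroup (Fin n) F)) := by
  classical
  let co : (Fin n → F) → ℕ → F := fun c i =>
    if i = 0 ∨ i = 2 * n then 1 else if h : min i (2 * n - i) - 1 < n then c ⟨_, h⟩ else 0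
  let P : (Fin n → F) → F[X] := fun c => ∑ i ∈ Finset.range (2 * n + 1), monomial i (co c i)
  have hco : ∀ c i, i ≤ 2 * n → (P c).coeff i = co c i := fun c i hi => by
    simp [P, coeff_monomial, show i < 2 * n + 1 by omega]
  have hle : ∀ c, (P c).natDegree ≤ 2 * n := fun c =>
    natDegree_sum_le_of_forall_le _ _ fun i hi =>
      (natDegree_monomial_le _).trans (by have := Finset.mem_range.1 hi; omega)
  have htop : ∀ c, (P c).coeff (2 * n) = 1 := fun c => by rw [hco c _ le_rfl]; simp [co]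
  have hdeg : ∀ c, (P c).natDegree = 2 * n := fun c =>
    le_antisymm (hle c) (le_natDegree_of_ne_zero (by rw [htop]; exact one_ne_zero))
  have hex : ∀ c, ∃ A : Matrix.symplecticGroup (Fin n) F, A.1.charpoly = P c := fun c => by
    refine SympConj.exists_charpoly hn (P c) (monic_of_natDegree_le_of_coeff_eq_one _ (hle c) (htop c)) (hdeg c)
      (fun l hl => ?_) (by rw [hco c 0 (by omega)]; simp [co])
    rw [hco c _ (by omega), hco c l hl]
    simp only [co]
    rw [show min (2 * n - l) (2 * n - (2 * n - l)) = min l (2 * n - l) by omega]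
    exact if_congr (by omega) rfl rfl
  choose A hA using hex
  rw [show Fintype.card F ^ n = Nat.card (Fin n → F) by simp [Nat.card_fun]]
  refine Nat.card_le_card_of_injective (fun c => ConjClasses.mk (A c)) fun c d h => ?_
  obtain ⟨u, hu⟩ := isConj_iff.1 (ConjClasses.mk_eq_mk_iff_isConj.1 h)
  have e : (A c).1.charpoly = (A d).1.charpoly := by
    rw [← hu, Submonoid.coe_mul, Submonoid.coe_mul, Matrix.charpoly_mul_comm, ← mul_assoc, ← Submonoid.coe_mul,
      inv_mul_cancel, Submonoid.coe_one, one_mul]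
  rw [hA, hA] at e
  funext i
  have := congrArg (fun p => coeff p (i.val + 1)) e
  simp only [hco _ _ (show i.val + 1 ≤ 2 * n by omega)] at this
  have hm : min (i.val + 1) (2 * n - (i.val + 1)) - 1 = i.val := by omega
  simp only [co, hm, show ¬(i.val + 1 = 0 ∨ i.val + 1 = 2 * n) by omega, if_false, dif_pos i.isLt] at this
  exact this

end Cfsg.Agent.SympTwo
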