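import Mathlib

/-!
# Block lists for unipotent classes of symplectic groups in characteristic two

An admissible list records the heights, kinds and bits of the blocks of a normal form. The weighted number of
admissible lists, weight `1/2` per unit of half dimension, is at most `15.2`.
-/

set_option autoImplicit false

namespace Cfsg.Agent.SympTwo

open Finset

/-- A block: height, whether it is cyclic, and its bit. -/
structure Blk where
  ht : ℕ
  isV : Bool
  bit : Bool
deriving DecidableEq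

/-- Half the dimension of a block. -/
def Blk.wt (a : Blk) : ℕ := if a.isV then a.ht / 2 else a.ht

/-- A block that makes the bit of a higher one removable. -/
def Link (a b : Blk) : Prop :=
  b.ht = a.ht ∨ (a.isV = true ∧ ((b.isV = true ∧ b.ht + 2 = a.ht) ∨ (b.isV = false ∧ b.ht + 1 = a.ht))) ∨
    (a.isV = false ∧ b.isV = true ∧ b.ht + 1 = a.ht)

/-- The shapes allowed for a single block. -/
def Blk.Ok (a : Blk) : Prop :=
  1 ≤ a.ht ∧ (a.isV = true → Even a.ht) ∧ (a.bit = true → 3 ≤ a.ht ∧ (a.isV = false → Odd a.ht))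

/-- Normal form lists. -/
def Adm : List Blk → Prop
  | [] => True
  | a :: R => Adm R ∧ a.Ok ∧ (∀ b ∈ R, b.ht ≤ a.ht ∧ (b.ht = a.ht → b.isV = a.isV)) ∧
      (a.bit = true → ∀ b ∈ R, ¬ Link a b)

/-- The blocks of the largest height. -/
def grp (M : ℕ) (kind : Bool) (c : ℕ) (bit : Bool) : List Blk :=
  List.replicate c ⟨M, kind, false⟩ ++ [⟨M, kind, bit⟩]

/-- Whether a list can remove the bit of the next height. -/
def Node (M : ℕ) (L : List Blk) : Prop :=
  ∃ b ∈ L, (Even M ∧ b.ht = M ∧ b.isV = true) ∨ (Odd M ∧ (b.ht = M ∨ (b.ht + 1 = M ∧ b.isV = true)))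

/-- Conditions on the blocks of largest height. -/
def GrpOk (M : ℕ) (kind bit : Bool) (R : List Blk) : Prop :=
  (kind = true → Even M) ∧ (bit = true → 3 ≤ M ∧ (kind = false → Odd M) ∧ ¬ Node (M - 1) R)

theorem split_top {M : ℕ} : ∀ {L : List Blk}, Adm L → (∀ b ∈ L, b.ht ≤ M + 1) →
    (∀ b ∈ L, b.ht ≤ M) ∨ ∃ (kind : Bool) (c : ℕ) (bit : Bool) (R : List Blk),
      L = grp (M + 1) kind c bit ++ R ∧ Adm R ∧ (∀ b ∈ R, b.ht ≤ M) ∧ GrpOk (M + 1) kind bit R
  | [], _, _ => Or.inl (by simp)
  | a :: L, h, hle => by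
    obtain ⟨hL, ⟨h1, h2, h3⟩, h4, h5⟩ := h
    rcases Nat.lt_or_ge a.ht (M + 1) with hlt | hge
    · left
      intro b hb
      rcases List.mem_cons.1 hb with rfl | hb
      · omega
      · have := (h4 b hb).1; omega
    have hM : a.ht = M + 1 := le_antisymm (hle a (by simp)) hge
    obtain ⟨m, v, t⟩ := a
    simp only at hM h1 h2 h3
    subst hM
    rcases split_top hL (fun b hb => hle b (by simp [hb])) with hsmall | ⟨kind, c, bit, R, rfl, hR, hRle, hG⟩
    · refine Or.inr ⟨v, 0, t, L, by simp [grp], hL, hsmall, h2, fun hb => ⟨(h3 hb).1, (h3 hb).2, ?_⟩⟩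
      rintro ⟨b, hbm, hn⟩
      refine h5 hb b hbm ?_
      unfold Link
      rcases v with _ | _
      · have ho := (h3 hb).2 rfl
        rcases hn with ⟨-, he, hv⟩ | ⟨ho', -⟩
        · exact Or.inr (Or.inr ⟨rfl, hv, by simp only; omega⟩)
        · simp only [Nat.odd_iff, Nat.add_sub_cancel] at ho ho'; omega
      · have he := h2 rfl
        rcases hn with ⟨he', -⟩ | ⟨-, hcase⟩
        · simp only [Nat.even_iff, Nat.add_sub_cancel] at he he'; omega
        · rcases hcase with e | ⟨e, hv⟩
          · cases hbv : b.isV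
            · exact Or.inr (Or.inl ⟨rfl, Or.inr ⟨rfl, by simp only; omega⟩⟩)
            · exfalso
              have : ∀ L : List Blk, Adm L → ∀ b ∈ L, b.Ok := by
                intro L
                induction L with
                | nil => simp
                | cons x L ih =>
                  intro h b hb
                  rcases List.mem_cons.1 hb with rfl | hb
                  · exact h.2.1
                  · exact ih h.1 b hb
              have hev := (this L hL b hbm).2.1 hbv
              simp only [Nat.even_iff, Nat.add_sub_cancel] at he hev e; omega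
          · exact Or.inr (Or.inl ⟨rfl, Or.inl ⟨hv, by simp only at e ⊢; omega⟩⟩)
    · have hmem : (⟨M + 1, kind, bit⟩ : Blk) ∈ grp (M + 1) kind c bit ++ R := by simp [grp]
      have hk : kind = v := (h4 _ hmem).2 rfl
      subst hk
      have ht : t = false := by
        cases t
        · rfl
        · exact absurd (Or.inl rfl) (h5 rfl (⟨M + 1, kind, bit⟩ : Blk) hmem)
      subst ht
      exact Or.inr ⟨kind, c + 1, bit, R, by simp [grp, List.replicate_succ], hR, hRle, hG⟩

/-- The weight of a list. -/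
def wts (L : List Blk) : ℕ := (L.map Blk.wt).sum

/-- The scaled weight. -/
def sw (L : List Blk) : ℚ := (1 / 2 : ℚ) ^ wts L

theorem wts_grp (M : ℕ) (kind : Bool) (c : ℕ) (bit : Bool) (R : List Blk) :
    wts (grp M kind c bit ++ R) = (c + 1) * (if kind then M / 2 else M) + wts R := by
  cases kind <;> simp [wts, grp, Blk.wt, List.sum_replicate, add_one_mul] <;> ring

theorem sw_nonneg (L : List Blk) : 0 ≤ sw L := by unfold sw; positivity

/-- `y + y ^ 2 + ...` -/
def geo (y : ℚ) : ℚ := y / (1 - y)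

theorem sum_geo_le {y : ℚ} (h0 : 0 ≤ y) (h1 : y < 1) (N : ℕ) : ∑ c ∈ range N, y ^ (c + 1) ≤ geo y := by
  have key : (∑ c ∈ range N, y ^ (c + 1)) * (1 - y) = y - y ^ (N + 1) := by
    induction N with
    | zero => simp
    | succ N ih => rw [sum_range_succ, add_mul, ih]; ring
  rw [geo, le_div_iff₀ (by linarith), key]
  have : 0 ≤ y ^ (N + 1) := by positivity
  linarith

theorem geo_nonneg {y : ℚ} (h0 : 0 ≤ y) (h1 : y < 1) : 0 ≤ geo y := div_nonneg h0 (by linarith)

theorem half_lt {d : ℕ} (hd : 1 ≤ d) : (1 / 2 : ℚ) ^ d < 1 := pow_lt_one₀ (by norm_num) (by norm_num) (by omega)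

/-- The factor of a cyclic height, of a paired height. -/
def vF (M : ℕ) : ℚ := geo ((1 / 2 : ℚ) ^ (M / 2))

/-- The factor of a paired height. -/
def wF (M : ℕ) : ℚ := geo ((1 / 2 : ℚ) ^ M)

/-- Number of bits of a fresh component. -/
def mu (M : ℕ) : ℚ := if 3 ≤ M then 2 else 1

/-- Bounds for the weighted numbers of lists with a node and without. -/
def AB : ℕ → ℚ × ℚ
  | 0 => (0, 1)
  | M + 1 =>
    if Even (M + 1) then
      (vF (M + 1) * ((AB M).1 + mu (M + 1) * (AB M).2), (1 + wF (M + 1)) * ((AB M).1 + (AB M).2))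
    else ((AB M).1 * (1 + wF (M + 1)) + mu (M + 1) * wF (M + 1) * (AB M).2, (AB M).2)

theorem sum_shape_le {M : ℕ} (hM : 1 ≤ M) (kind bit : Bool) (hk : kind = true → 2 ≤ M) (s S : Finset (List Blk))
    (hs : ∀ L ∈ s, ∃ c, ∃ R ∈ S, L = grp M kind c bit ++ R) :
    ∑ L ∈ s, sw L ≤ (if kind then vF M else wF M) * ∑ R ∈ S, sw R := by
  classical
  set d := if kind then M / 2 else M with hd
  set N := s.sup List.length
  have hd1 : 1 ≤ d := by
    rw [hd]; cases kind
    · simpa using hM
    · have := hk rfl; simp; omega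
  have hsub : s ⊆ (range N ×ˢ S).image fun p => grp M kind p.1 bit ++ p.2 := by
    intro L hL
    obtain ⟨c, R, hR, rfl⟩ := hs L hL
    refine mem_image.2 ⟨(c, R), mem_product.2 ⟨mem_range.2 ?_, hR⟩, rfl⟩
    have := le_sup (f := List.length) hL
    simp only [grp, List.length_append, List.length_replicate, List.length_singleton] at this
    omega
  have hf : (if kind then vF M else wF M) = geo ((1 / 2 : ℚ) ^ d) := by cases kind <;> simp [vF, wF, hd]
  calc ∑ L ∈ s, sw L ≤ ∑ L ∈ (range N ×ˢ S).image (fun p => grp M kind p.1 bit ++ p.2), sw L :=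
        sum_le_sum_of_subset_of_nonneg hsub fun L _ _ => sw_nonneg L
    _ ≤ ∑ p ∈ range N ×ˢ S, sw (grp M kind p.1 bit ++ p.2) :=
        sum_image_le_of_nonneg fun L _ => sw_nonneg L
    _ = (∑ c ∈ range N, ((1 / 2 : ℚ) ^ d) ^ (c + 1)) * ∑ R ∈ S, sw R := by
        rw [sum_product, sum_mul]
        refine sum_congr rfl fun c _ => ?_
        rw [mul_sum]
        refine sum_congr rfl fun R _ => ?_
        rw [sw, wts_grp, pow_add, ← hd, mul_comm _ d, pow_mul]; rfl
    _ ≤ _ := by
        rw [hf]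
        exact mul_le_mul_of_nonneg_right (sum_geo_le (by positivity) (half_lt hd1) N)
          (sum_nonneg fun R _ => sw_nonneg R)

theorem mem_ok : ∀ {L : List Blk}, Adm L → ∀ b ∈ L, b.Ok
  | [], _, b, hb => by simp at hb
  | x :: L, h, b, hb => by
    rcases List.mem_cons.1 hb with rfl | hb
    · exact h.2.1
    · exact mem_ok h.1 b hb

theorem node_low {M : ℕ} {R : List Blk} (hR : ∀ b ∈ R, b.ht ≤ M) :
    Node (M + 1) R → Odd (M + 1) ∧ ∃ b ∈ R, b.ht = M ∧ b.isV = true := by
  rintro ⟨b, hb, ⟨-, e, -⟩ | ⟨ho, e | ⟨e, hv⟩⟩⟩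
  · have := hR b hb; omega
  · have := hR b hb; omega
  · exact ⟨ho, b, hb, by omega, hv⟩

open scoped Classical in
theorem sums_le : ∀ (M : ℕ) (s : Finset (List Blk)), (∀ L ∈ s, Adm L ∧ ∀ b ∈ L, b.ht ≤ M) →
    ∑ L ∈ s.filter (Node M), sw L ≤ (AB M).1 ∧ ∑ L ∈ s.filter (fun L => ¬ Node M L), sw L ≤ (AB M).2
  | 0, s, hs => by
    have hnil : ∀ L ∈ s, L = [] := by
      intro L hL
      rcases L with _ | ⟨b, L⟩
      · rfl
      · obtain ⟨⟨-, h, -⟩, hle⟩ := hs _ hL
        have := hle b (by simp); have := h.1; omega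
    constructor
    · rw [Finset.filter_eq_empty_iff.2 fun L hL => by rw [hnil L hL]; simp [Node]]
      simp [AB]
    · refine (sum_le_sum_of_subset_of_nonneg (t := {[]}) (fun L hL => mem_singleton.2 (hnil L (mem_of_mem_filter _ hL)))
        fun L _ _ => sw_nonneg L).trans ?_
      simp [AB, sw, wts]
  | M + 1, s, hs => by
    -- the tails
    let tail : List Blk → List Blk := fun L => L.filter fun b => decide (b.ht ≤ M)
    set S := s.image tail with hS
    have htail : ∀ {kind : Bool} {c : ℕ} {bit : Bool} {R : List Blk}, (∀ b ∈ R, b.ht ≤ M) →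
        tail (grp (M + 1) kind c bit ++ R) = R := by
      intro kind c bit R hR
      simp only [tail, List.filter_append]
      have h1 : (grp (M + 1) kind c bit).filter (fun b => decide (b.ht ≤ M)) = [] := by
        refine List.filter_eq_nil_iff.2 fun b hb => ?_
        simp only [grp, List.mem_append, List.mem_replicate, List.mem_singleton] at hb
        rcases hb with ⟨-, rfl⟩ | rfl <;> simp
      have h2 : R.filter (fun b => decide (b.ht ≤ M)) = R :=
        List.filter_eq_self.2 fun b hb => by simpa using hR b hb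
      rw [h1, h2, List.nil_append]
    have hdec : ∀ L ∈ s, (L ∈ S ∧ (∀ b ∈ L, b.ht ≤ M)) ∨ ∃ kind c bit, ∃ R ∈ S, L = grp (M + 1) kind c bit ++ R ∧
        GrpOk (M + 1) kind bit R ∧ ∀ b ∈ R, b.ht ≤ M := by
      intro L hL
      rcases split_top (hs L hL).1 (hs L hL).2 with h | ⟨kind, c, bit, R, rfl, hR, hRle, hG⟩
      · exact Or.inl ⟨mem_image.2 ⟨L, hL, List.filter_eq_self.2 fun b hb => by simpa using h b hb⟩, h⟩
      · exact Or.inr ⟨kind, c, bit, R, mem_image.2 ⟨_, hL, htail hRle⟩, rfl, hG, hRle⟩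
    have hSok : ∀ L ∈ S, Adm L ∧ ∀ b ∈ L, b.ht ≤ M := by
      intro R hR
      obtain ⟨L, hL, rfl⟩ := mem_image.1 hR
      rcases split_top (hs L hL).1 (hs L hL).2 with h | ⟨kind, c, bit, R, rfl, hR, hRle, -⟩
      · rw [show tail L = L from List.filter_eq_self.2 fun b hb => by simpa using h b hb]
        exact ⟨(hs L hL).1, h⟩
      · rw [htail hRle]; exact ⟨hR, hRle⟩
    obtain ⟨ihA, ihB⟩ := sums_le M S hSok
    have hA0 : 0 ≤ (AB M).1 := (sum_nonneg fun L _ => sw_nonneg L).trans ihA
    have hB0 : 0 ≤ (AB M).2 := (sum_nonneg fun L _ => sw_nonneg L).trans ihB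
    have hall : ∑ L ∈ S, sw L ≤ (AB M).1 + (AB M).2 := by
      rw [← sum_filter_add_sum_filter_not S (Node M)]
      exact add_le_add ihA ihB
    have hw0 : 0 ≤ wF (M + 1) := geo_nonneg (by positivity) (half_lt (by omega))
    -- the pieces
    let P : Bool → Bool → Finset (List Blk) := fun kind bit =>
      s.filter fun L => ∃ c, ∃ R ∈ S, L = grp (M + 1) kind c bit ++ R ∧ GrpOk (M + 1) kind bit R ∧
        ∀ b ∈ R, b.ht ≤ M
    have hbit : ∀ kind, ∑ L ∈ P kind true, sw L ≤
        (if kind = true → 2 ≤ M + 1 then (if kind then vF (M + 1) else wF (M + 1)) * (mu (M + 1) - 1) * (AB M).2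
          else 0) := by
      intro kind
      by_cases hk : kind = true → 2 ≤ M + 1
      · rw [if_pos hk]
        by_cases h3 : 3 ≤ M + 1
        · rw [mu, if_pos h3, show (2 : ℚ) - 1 = 1 by norm_num, mul_one]
          have hf0 : (0 : ℚ) ≤ if kind then vF (M + 1) else wF (M + 1) := by
            cases kind
            · exact hw0
            · exact geo_nonneg (by positivity) (half_lt (by have := hk rfl; omega))
          refine (sum_shape_le (Nat.succ_pos M) kind true hk _ (S.filter fun R => ¬ Node M R) ?_).trans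
            (mul_le_mul_of_nonneg_left ihB hf0)
          intro L hL
          obtain ⟨-, c, R, hR, e, hG, -⟩ := mem_filter.1 hL
          exact ⟨c, R, mem_filter.2 ⟨hR, by simpa using (hG.2 rfl).2.2⟩, e⟩
        · rw [mu, if_neg h3, Finset.sum_eq_zero]
          · simp
          · intro L hL
            obtain ⟨-, c, R, -, -, hG, -⟩ := mem_filter.1 hL
            exact absurd (hG.2 rfl).1 h3
      · rw [if_neg hk, Finset.sum_eq_zero]
        intro L hL
        obtain ⟨-, c, R, -, -, hG, -⟩ := mem_filter.1 hL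
        refine absurd (fun hv => ?_) hk
        have := hG.1 hv
        rw [Nat.even_iff] at this; omega
    have hsub3 : ∀ (t a b c : Finset (List Blk)), (∀ L ∈ t, L ∈ a ∨ L ∈ b ∨ L ∈ c) →
        ∑ L ∈ t, sw L ≤ ∑ L ∈ a, sw L + ∑ L ∈ b, sw L + ∑ L ∈ c, sw L := by
      intro t a b c h
      have key : ∀ u v : Finset (List Blk), ∑ L ∈ u ∪ v, sw L ≤ ∑ L ∈ u, sw L + ∑ L ∈ v, sw L := fun u v => by
        rw [← sum_union_inter]
        exact le_add_of_nonneg_right (sum_nonneg fun L _ => sw_nonneg L)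
      refine (sum_le_sum_of_subset_of_nonneg (t := a ∪ b ∪ c) ?_ fun L _ _ => sw_nonneg L).trans ?_
      · intro L hL; simpa [or_assoc] using h L hL
      · exact (key _ _).trans (add_le_add_left (key _ _) _)
    have hshape : ∀ kind (T : Finset (List Blk)) (u : Finset (List Blk)), (kind = true → 2 ≤ M + 1) →
        (∀ L ∈ u, ∃ c, ∃ R ∈ T, L = grp (M + 1) kind c false ++ R) →
        ∑ L ∈ u, sw L ≤ (if kind then vF (M + 1) else wF (M + 1)) * ∑ R ∈ T, sw R :=
      fun kind T u hk hu => sum_shape_le (Nat.succ_pos M) kind false hk u T hu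
    by_cases hev : Even (M + 1)
    · have hM2 : 2 ≤ M + 1 := by rw [Nat.even_iff] at hev; omega
      have hv0 : 0 ≤ vF (M + 1) := geo_nonneg (by positivity) (half_lt (by omega))
      simp only [AB, if_pos hev]
      constructor
      · refine (hsub3 _ (P true false) (P true true) ∅ ?_).trans ?_
        · intro L hL
          obtain ⟨hLs, hN⟩ := mem_filter.1 hL
          rcases hdec L hLs with ⟨-, hlow⟩ | ⟨kind, c, bit, R, hR, rfl, hG, hRle⟩
          · exact absurd (node_low hlow hN).1 (Nat.not_odd_iff_even.2 hev)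
          · cases kind
            · exfalso
              obtain ⟨b, hb, ⟨-, e, hv⟩ | ⟨ho, -⟩⟩ := hN
              · rcases List.mem_append.1 hb with hb | hb
                · simp only [grp, List.mem_append, List.mem_replicate, List.mem_singleton] at hb
                  rcases hb with ⟨-, rfl⟩ | rfl <;> simp at hv
                · have := hRle b hb; omega
              · exact Nat.not_odd_iff_even.2 hev ho
            · cases bit
              · exact Or.inl (mem_filter.2 ⟨hLs, c, R, hR, rfl, hG, hRle⟩)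
              · exact Or.inr (Or.inl (mem_filter.2 ⟨hLs, c, R, hR, rfl, hG, hRle⟩))
        · have h1 := (hshape true S (P true false) (fun _ => hM2) fun L hL => by
            obtain ⟨-, c, R, hR, e, -⟩ := mem_filter.1 hL; exact ⟨c, R, hR, e⟩).trans
              (mul_le_mul_of_nonneg_left hall hv0)
          have h2 := hbit true
          rw [if_pos fun _ => hM2] at h2
          simp only [if_true] at h1 h2
          simp only [Finset.sum_empty]
          linarith
      · refine (hsub3 _ S (P false false) ∅ ?_).trans ?_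
        · intro L hL
          obtain ⟨hLs, hN⟩ := mem_filter.1 hL
          rcases hdec L hLs with ⟨hLS, -⟩ | ⟨kind, c, bit, R, hR, rfl, hG, hRle⟩
          · exact Or.inl hLS
          · cases kind
            · cases bit
              · exact Or.inr (Or.inl (mem_filter.2 ⟨hLs, c, R, hR, rfl, hG, hRle⟩))
              · exact absurd ((hG.2 rfl).2.1 rfl) (Nat.not_odd_iff_even.2 hev)
            · exact absurd ⟨⟨M + 1, true, bit⟩, by simp [grp], Or.inl ⟨hev, rfl, rfl⟩⟩ hN
        · have h1 := (hshape false S (P false false) (fun h => absurd h (by simp)) fun L hL => by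
            obtain ⟨-, c, R, hR, e, -⟩ := mem_filter.1 hL; exact ⟨c, R, hR, e⟩).trans
              (mul_le_mul_of_nonneg_left hall hw0)
          simp only [Bool.false_eq_true, if_false] at h1
          simp only [Finset.sum_empty]
          linarith
    · have hodd : Odd (M + 1) := Nat.not_even_iff_odd.1 hev
      have hMev : ∀ {R : List Blk}, (∃ b ∈ R, b.ht = M ∧ b.isV = true) → Node M R := fun ⟨b, hb, e, hv⟩ =>
        ⟨b, hb, Or.inl ⟨by rw [Nat.even_iff]; rw [Nat.odd_iff] at hodd; omega, e, hv⟩⟩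
      simp only [AB, if_neg hev]
      constructor
      · refine (hsub3 _ (S.filter (Node M)) (P false false) (P false true) ?_).trans ?_
        · intro L hL
          obtain ⟨hLs, hN⟩ := mem_filter.1 hL
          rcases hdec L hLs with ⟨hLS, hlow⟩ | ⟨kind, c, bit, R, hR, rfl, hG, hRle⟩
          · exact Or.inl (mem_filter.2 ⟨hLS, hMev (node_low hlow hN).2⟩)
          · cases kind
            · cases bit
              · exact Or.inr (Or.inl (mem_filter.2 ⟨hLs, c, R, hR, rfl, hG, hRle⟩))
              · exact Or.inr (Or.inr (mem_filter.2 ⟨hLs, c, R, hR, rfl, hG, hRle⟩))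
            · exact absurd (hG.1 rfl) hev
        · have h1 := (hshape false S (P false false) (fun h => absurd h (by simp)) fun L hL => by
            obtain ⟨-, c, R, hR, e, -⟩ := mem_filter.1 hL; exact ⟨c, R, hR, e⟩).trans
              (mul_le_mul_of_nonneg_left hall hw0)
          have h2 := hbit false
          simp only [Bool.false_eq_true, if_false, false_implies, if_true] at h1 h2
          linarith
      · refine (sum_le_sum_of_subset_of_nonneg (t := S.filter fun L => ¬ Node M L) ?_
          fun L _ _ => sw_nonneg L).trans ihB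
        intro L hL
        obtain ⟨hLs, hN⟩ := mem_filter.1 hL
        rcases hdec L hLs with ⟨hLS, hlow⟩ | ⟨kind, c, bit, R, hR, rfl, hG, hRle⟩
        · refine mem_filter.2 ⟨hLS, fun hn => hN ?_⟩
          obtain ⟨b, hb, ⟨-, e, hv⟩ | ⟨ho, -⟩⟩ := hn
          · exact ⟨b, hb, Or.inr ⟨hodd, Or.inr ⟨by omega, hv⟩⟩⟩
          · rw [Nat.odd_iff] at ho hodd; omega
        · exact absurd ⟨⟨M + 1, kind, bit⟩, by simp [grp], Or.inr ⟨hodd, Or.inl rfl⟩⟩ hN

theorem AB_base : ((AB 24).1 + (AB 24).2) * (1 + 4 * (1 / 2 : ℚ) ^ 12) ≤ 76 / 5 := by decide +kernel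

theorem AB_nonneg : ∀ M, 0 ≤ (AB M).1 ∧ 0 ≤ (AB M).2
  | 0 => by simp [AB]
  | M + 1 => by
    obtain ⟨a, b⟩ := AB_nonneg M
    have hw : 0 ≤ wF (M + 1) := geo_nonneg (by positivity) (half_lt (by omega))
    have hm : 0 ≤ mu (M + 1) := by unfold mu; split_ifs <;> norm_num
    by_cases h : Even (M + 1)
    · have hv : 0 ≤ vF (M + 1) := geo_nonneg (by positivity) (half_lt (by rw [Nat.even_iff] at h; omega))
      simp only [AB, if_pos h]
      exact ⟨by positivity, by positivity⟩
    · simp only [AB, if_neg h]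
      exact ⟨by positivity, b⟩

theorem AB_tail : ∀ K, ((AB (2 * (K + 12))).1 + (AB (2 * (K + 12))).2) * (1 + 4 * (1 / 2 : ℚ) ^ (K + 12)) ≤ 76 / 5
  | 0 => AB_base
  | K + 1 => by
    have ih := AB_tail K
    set k := K + 12 with hk
    rw [show 2 * (K + 1 + 12) = 2 * k + 1 + 1 by omega, show K + 1 + 12 = k + 1 by omega]
    set d := (1 / 2 : ℚ) ^ k with hd
    have hd0 : 0 ≤ d := by positivity
    have hd1 : d ≤ 1 / 4096 := by
      calc d ≤ (1 / 2 : ℚ) ^ 12 := pow_le_pow_of_le_one (by norm_num) (by norm_num) (by omega)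
        _ = 1 / 4096 := by norm_num
    obtain ⟨a, b⟩ := AB_nonneg (2 * k)
    obtain ⟨a', b'⟩ := AB_nonneg (2 * k + 1)
    have e1 : ¬ Even (2 * k + 1) := by simp [parity_simps]
    have e2 : Even (2 * k + 1 + 1) := by simp [parity_simps]
    have hgeo : ∀ y : ℚ, 0 ≤ y → y ≤ 1 / 2 → geo y ≤ y + 2 * y ^ 2 := by
      intro y h0 h1
      rw [geo, div_le_iff₀ (by linarith)]
      nlinarith [mul_nonneg h0 h0]
    have m1 : mu (2 * k + 1) = 2 := if_pos (by omega)
    have m2 : mu (2 * k + 1 + 1) = 2 := if_pos (by omega)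
    have w1 : wF (2 * k + 1) ≤ d ^ 2 := by
      rw [wF, show (1 / 2 : ℚ) ^ (2 * k + 1) = d ^ 2 / 2 by rw [pow_succ, mul_comm 2 k, pow_mul]; ring]
      refine (hgeo _ (by positivity) (by nlinarith)).trans ?_
      nlinarith [mul_le_mul_of_nonneg_left hd1 hd0, mul_nonneg hd0 hd0]
    have w2 : wF (2 * k + 1 + 1) ≤ d ^ 2 := by
      rw [wF, show (1 / 2 : ℚ) ^ (2 * k + 1 + 1) = d ^ 2 / 4 by rw [pow_succ, pow_succ, mul_comm 2 k, pow_mul]; ring]
      refine (hgeo _ (by positivity) (by nlinarith)).trans ?_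
      nlinarith [mul_le_mul_of_nonneg_left hd1 hd0, mul_nonneg hd0 hd0]
    have v2 : vF (2 * k + 1 + 1) ≤ d / 2 + d ^ 2 := by
      rw [vF, show (2 * k + 1 + 1) / 2 = k + 1 by omega, pow_succ, ← hd]
      refine (hgeo _ (by positivity) (by linarith)).trans ?_
      nlinarith
    have hw1 : 0 ≤ wF (2 * k + 1) := geo_nonneg (by positivity) (half_lt (by omega))
    have hv : 0 ≤ vF (2 * k + 1 + 1) := geo_nonneg (by positivity) (half_lt (by omega))
    set T0 := (AB (2 * k)).1 + (AB (2 * k)).2
    have t1 : (AB (2 * k + 1)).1 + (AB (2 * k + 1)).2 ≤ T0 * (1 + 2 * d ^ 2) := by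
      simp only [AB, if_neg e1, m1, T0]
      nlinarith [mul_nonneg a hw1, mul_le_mul_of_nonneg_left w1 a, mul_le_mul_of_nonneg_left w1 b]
    have t2 : (AB (2 * k + 1 + 1)).1 + (AB (2 * k + 1 + 1)).2 ≤
        ((AB (2 * k + 1)).1 + (AB (2 * k + 1)).2) * (1 + d + 3 * d ^ 2) := by
      rw [AB]
      simp only [if_pos e2, m2]
      generalize (AB (2 * k + 1)).1 = p at a' ⊢
      generalize (AB (2 * k + 1)).2 = r at b' ⊢
      nlinarith [mul_nonneg a' hv, mul_le_mul_of_nonneg_left v2 a', mul_le_mul_of_nonneg_left v2 b',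
        mul_le_mul_of_nonneg_left w2 (add_nonneg a' b')]
    have T00 : 0 ≤ T0 := add_nonneg a b
    have hfac : (1 + 2 * d ^ 2) * (1 + d + 3 * d ^ 2) * (1 + 4 * (1 / 2 : ℚ) ^ (k + 1)) ≤ 1 + 4 * d := by
      rw [pow_succ (1 / 2 : ℚ) k, ← hd]
      nlinarith [mul_le_mul_of_nonneg_left hd1 hd0, mul_nonneg hd0 hd0,
        mul_le_mul_of_nonneg_left hd1 (mul_nonneg hd0 hd0),
        mul_le_mul_of_nonneg_left hd1 (pow_nonneg hd0 3), mul_le_mul_of_nonneg_left hd1 (pow_nonneg hd0 4),
        pow_nonneg hd0 3, pow_nonneg hd0 4]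
    have h := mul_le_mul_of_nonneg_right (t2.trans (mul_le_mul_of_nonneg_right t1 (by positivity)))
      (show (0 : ℚ) ≤ 1 + 4 * (1 / 2 : ℚ) ^ (k + 1) by positivity)
    refine h.trans (le_trans ?_ ih)
    rw [mul_assoc, mul_assoc, ← mul_assoc (1 + 2 * d ^ 2)]
    exact mul_le_mul_of_nonneg_left hfac T00

/-- The weighted number of normal forms is at most `15.2`. -/
theorem sum_sw_le (s : Finset (List Blk)) (hs : ∀ L ∈ s, Adm L) : ∑ L ∈ s, sw L ≤ 76 / 5 := by
  classical
  set K := s.sup fun L => (L.map Blk.ht).sum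
  have hb : ∀ L ∈ s, ∀ b ∈ L, b.ht ≤ 2 * (K + 12) := by
    intro L hL b hb
    have h1 : (L.map Blk.ht).sum ≤ K := le_sup (f := fun L => (L.map Blk.ht).sum) hL
    have h2 : b.ht ≤ (L.map Blk.ht).sum := List.le_sum_of_mem (List.mem_map.2 ⟨b, hb, rfl⟩)
    omega
  obtain ⟨h1, h2⟩ := sums_le (2 * (K + 12)) s fun L hL => ⟨hs L hL, hb L hL⟩
  rw [← sum_filter_add_sum_filter_not s (Node (2 * (K + 12)))]
  refine (add_le_add h1 h2).trans (le_trans ?_ (AB_tail K))
  exact le_mul_of_one_le_right (add_nonneg (AB_nonneg _).1 (AB_nonneg _).2) (le_add_of_nonneg_right (by positivity))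

end Cfsg.Agent.SympTwo
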