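import Cfsg.Agent.SympTwo.Piece

/-!
# Existence of normal forms
-/

set_option autoImplicit false

namespace Cfsg.Agent.SympTwo

open Module Finset

universe u v

variable {F : Type u} [Field F] {V : Type v} [AddCommGroup V] [Module F V]

/-- A representative of the nontrivial class modulo the values `r ^ 2 + r`. -/
def IsASRep (a₀ : F) : Prop :=
  (∀ r : F, r ^ 2 + r ≠ a₀) ∧ ∀ g : F, (∃ r, r ^ 2 + r = g) ∨ ∃ r, r ^ 2 + r = g + a₀

theorem exists_asRep [Finite F] (h2 : (2 : F) = 0) : ∃ a₀ : F, IsASRep a₀ := by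
  classical
  let P : F →+ F :=
    { toFun := fun r => r ^ 2 + r
      map_zero' := by simp
      map_add' := fun a b => by linear_combination (a * b) * h2 }
  have hker : Nat.card P.ker = 2 := by
    rw [Nat.card_eq_two_iff]
    refine ⟨⟨0, by simp⟩, ⟨1, by show (1 : F) ^ 2 + 1 = 0; linear_combination h2⟩, by simp [Subtype.ext_iff], ?_⟩
    refine Set.eq_univ_of_forall fun ⟨x, hx⟩ => ?_
    have hx' : x * (x + 1) = 0 := by
      have : x ^ 2 + x = 0 := hx
      linear_combination this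
    rcases mul_eq_zero.1 hx' with h | h
    · exact Or.inl (Subtype.ext h)
    · exact Or.inr (Set.mem_singleton_iff.2 (Subtype.ext (show x = 1 by linear_combination h - h2)))
  have hidx : P.range.index = 2 := by
    have h1 := AddSubgroup.index_ker P
    have h2' := AddSubgroup.card_mul_index P.ker
    have h3 := AddSubgroup.card_mul_index P.range
    rw [hker, h1] at h2'
    have hpos : 0 < Nat.card P.range := Nat.card_pos
    refine Nat.eq_of_mul_eq_mul_left hpos ?_
    rw [h3, ← h2', mul_comm]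
  obtain ⟨a, ha⟩ : ∃ a, a ∉ P.range := by
    by_contra! h
    rw [(AddSubgroup.eq_top_iff' P.range).2 h, AddSubgroup.index_top] at hidx
    omega
  refine ⟨a, fun r hr => ha ⟨r, hr⟩, fun g => ?_⟩
  by_cases hg : g ∈ P.range
  · obtain ⟨r, hr⟩ := hg; exact Or.inl ⟨r, hr⟩
  · obtain ⟨r, hr⟩ := (AddSubgroup.add_mem_iff_of_index_two hidx).2 (iff_of_false hg ha)
    exact Or.inr ⟨r, hr⟩

theorem exists_sqrt [Finite F] (h2 : (2 : F) = 0) (g : F) : ∃ r : F, r ^ 2 = g := by
  have hinj : Function.Injective fun r : F => r ^ 2 := fun a b h => by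
    have : (a - b) ^ 2 = 0 := by
      have h' : a ^ 2 = b ^ 2 := h
      linear_combination h' + (b ^ 2 - a * b) * h2
    exact sub_eq_zero.1 (eq_zero_of_pow_eq_zero this)
  exact Finite.surjective_of_injective hinj g

theorem adm_kind : ∀ {L : List Blk}, Adm L → ∀ b ∈ L, ∀ c ∈ L, b.ht = c.ht → b.isV = c.isV
  | [], _, b, hb => by simp at hb
  | a :: R, h, b, hb => fun c hc e => by
    rcases List.mem_cons.1 hb with hb1 | hb1 <;> rcases List.mem_cons.1 hc with hc1 | hc1
    · rw [hb1, hc1]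
    · subst hb1; exact ((h.2.2.1 c hc1).2 e.symm).symm
    · subst hc1; exact (h.2.2.1 b hb1).2 e
    · exact adm_kind h.1 b hb1 c hc1 e

namespace Ctx

variable (C : Ctx F V) [FiniteDimensional F V] [Finite F]

/-- The pairing on the largest height. -/
def T (m : ℕ) (x y : V) : F := C.B ((C.N ^ m) x) y

/-- The condition on the top layer of a complement of a generator. -/
def Kind (U : Submodule F V) (m : ℕ) (v : V) : Prop :=
  (∀ y ∈ U, C.T m v y = 0 → ∀ z ∈ U, C.T m y z = 0) ∨ ∃ y ∈ U, C.T m v y = 0 ∧ C.T m y y ≠ 0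

omit [FiniteDimensional F V] [Finite F] in
theorem T_add_left (m : ℕ) (x y z : V) : C.T m (x + y) z = C.T m x z + C.T m y z := by
  rw [T, T, T, map_add, map_add, LinearMap.add_apply]

omit [FiniteDimensional F V] [Finite F] in
theorem T_add_right (m : ℕ) (x y z : V) : C.T m x (y + z) = C.T m x y + C.T m x z := map_add _ _ _

omit [FiniteDimensional F V] [Finite F] in
theorem T_smul_left (m : ℕ) (s : F) (x y : V) : C.T m (s • x) y = s * C.T m x y := by
  rw [T, T, map_smul, map_smul, LinearMap.smul_apply, smul_eq_mul]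

omit [FiniteDimensional F V] [Finite F] in
theorem T_smul_right (m : ℕ) (s : F) (x y : V) : C.T m x (s • y) = s * C.T m x y := map_smul _ _ _

omit [FiniteDimensional F V] [Finite F] in
theorem T_symm {m : ℕ} {x y : V} (hy : (C.N ^ (m + 1)) y = 0) : C.T m x y = C.T m y x := C.top_symm hy

omit [FiniteDimensional F V] [Finite F] in
theorem comb_kills {m : ℕ} {w : V} (hw : (C.N ^ m) w = 0) (L : ℕ) (p : ℕ → F) :
    (C.N ^ m) (C.comb L p w) = 0 := by
  rw [comb, map_sum]
  refine sum_eq_zero fun i _ => ?_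
  rw [map_smul, ← Module.End.mul_apply, ((C.commute_ZN.pow_left i).pow_right m).eq.symm, Module.End.mul_apply, hw,
    map_zero, smul_zero]

omit [FiniteDimensional F V] [Finite F] in
theorem comb_kills' {m : ℕ} {w : V} (hw : (C.N ^ (m + 1)) w = 0) {L : ℕ} {p : ℕ → F} (hp : p 0 = 0) :
    (C.N ^ m) (C.comb L p w) = 0 := by
  rw [comb, map_sum]
  refine sum_eq_zero fun i _ => ?_
  rcases Nat.eq_zero_or_pos i with rfl | hi
  · rw [hp, zero_smul, map_zero]
  · rw [← E_even, map_smul, C.Npow_E_zero hw (by omega), smul_zero]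

omit [FiniteDimensional F V] [Finite F] in
theorem pair_comb {u y : V} (h1 : ∀ J, C.B ((C.Z ^ J) u) y = 0) (h2 : ∀ J, C.B ((C.Z ^ J) (C.N u)) y = 0)
    (L : ℕ) (p : ℕ → F) (i : ℕ) : C.B (C.E i u) (C.comb L p y) = 0 := by
  rw [comb, map_sum]
  refine sum_eq_zero fun l _ => ?_
  rw [map_smul]
  rcases Nat.even_or_odd' i with ⟨j, rfl | rfl⟩
  · rw [E_even, Zpow_merge, h1, smul_zero]
  · rw [E_odd, Zpow_merge, h2, smul_zero]

omit [Finite F] in
theorem exists_T_one {U : Submodule F V} (hU : C.Piece U) {m : ℕ} {v : V} (hv : v ∈ U) (hv0 : (C.N ^ m) v ≠ 0) :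
    ∃ w ∈ U, C.T m v w = 1 := by
  by_contra! h
  refine hv0 (hU.nd _ (C.mem_Npow hU hv m) fun y hy => ?_)
  by_contra hy0
  refine h ((C.B ((C.N ^ m) v) y)⁻¹ • y) (U.smul_mem _ hy) ?_
  rw [T_smul_right, T, inv_mul_cancel₀ hy0]

/-! ## Normalising generators -/

theorem normV {a₀ : F} (ha : IsASRep a₀) {U : Submodule F V} (hU : C.Piece U) {k : ℕ}
    (hh : ∀ x ∈ U, (C.N ^ (2 * k + 2)) x = 0) {v : V} (hv : v ∈ U) (hT : C.T (2 * k + 1) v v ≠ 0) :
    ∃ (bit : Bool) (v' : V), v' ∈ U ∧ C.VData a₀ k bit v' ∧ (bit = true → 1 ≤ k) ∧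
      (∃ s : F, s ≠ 0 ∧ (C.N ^ (2 * k + 1)) v' = s • (C.N ^ (2 * k + 1)) v) ∧
      ((1 ≤ k → C.f v (k - 1) = 0) → bit = false) := by
  obtain ⟨s, hs⟩ := exists_sqrt C.two (C.T (2 * k + 1) v v)⁻¹
  have hs0 : s ≠ 0 := fun h => inv_ne_zero hT (by rw [← hs, h]; simp)
  obtain ⟨v1, hv1⟩ : ∃ v1, v1 = s • v := ⟨_, rfl⟩
  have hv1U : v1 ∈ U := hv1 ▸ U.smul_mem _ hv
  have hh1 : (C.N ^ (2 * k + 2)) v1 = 0 := hh v1 hv1U
  have ft : C.f v1 k = 1 := by
    rw [hv1, f_smul, C.f_top (hh v hv), hs]; exact inv_mul_cancel₀ hT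
  have hN : (C.N ^ (2 * k + 1)) (C.N v1) = 0 := by rw [← Module.End.mul_apply, ← pow_succ]; exact hh1
  -- the obstruction
  have key : ∀ (bit : Bool) (r : F), (bit = true → 1 ≤ k) →
      (1 ≤ k → C.f v1 (k - 1) + r ^ 2 + r = if bit = true then a₀ else 0) →
      ∃ v', v' ∈ U ∧ C.VData a₀ k bit v' ∧ (C.N ^ (2 * k + 1)) v' = s • (C.N ^ (2 * k + 1)) v := by
    intro bit r hbk hr
    have hc : ∀ j, C.B ((C.Z ^ j) v1) (C.N v1) = C.f v1 j := fun j => by
      rw [f_eq_N, C.Zpow_adj j v1, C.symm]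
    obtain ⟨p, -, hp⟩ := C.adjust (L := k) v1 (C.N v1)
      (fun J => if J = k then 1 else if J + 1 = k ∧ bit = true then a₀ else 0)
      (fun j hj => by rw [f_N]; exact C.f_high hh1 (by omega))
      (fun j hj => by rw [hc]; exact C.f_high hh1 (by omega))
      (by rw [hc, ft]; exact one_ne_zero)
      (fun j hj => by
        rcases hj.eq_or_lt with rfl | hlt
        · rw [ft, if_pos rfl]
        · rw [C.f_high hh1 (by omega), if_neg (by omega), if_neg (by omega)])
      r (fun h1 => by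
        rw [hc, ft, f_N, show k - 1 + 1 = k by omega, ft, if_neg (show k - 1 ≠ k by omega), mul_one, mul_one, hr h1]
        exact if_congr ⟨fun h => ⟨by omega, h⟩, fun h => h.2⟩ rfl rfl)
    have hm : v1 + C.comb k p (C.N v1) ∈ U := add_mem hv1U (C.mem_comb hU (hU.inv _ hv1U) _ _)
    refine ⟨_, hm, ⟨hh _ hm, hp⟩, ?_⟩
    rw [map_add, C.comb_kills hN, add_zero, hv1, map_smul]
  by_cases hk : k = 0
  · obtain ⟨v', h1, h2, h3⟩ := key false 0 (fun h => by simp at h) (fun h => absurd h (by omega))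
    exact ⟨false, v', h1, h2, fun h => by simp at h, ⟨s, hs0, h3⟩, fun _ => rfl⟩
  rcases ha.2 (C.f v1 (k - 1)) with ⟨r, hr⟩ | ⟨r, hr⟩
  · obtain ⟨v', h1, h2, h3⟩ := key false r (fun h => by simp at h) (fun _ => by
      rw [add_assoc, hr]; simp [C.add_self])
    exact ⟨false, v', h1, h2, fun h => by simp at h, ⟨s, hs0, h3⟩, fun _ => rfl⟩
  · obtain ⟨v', h1, h2, h3⟩ := key true r (fun _ => by omega) (fun _ => by
      rw [add_assoc, hr, ← add_assoc, C.add_self, zero_add, if_pos rfl])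
    refine ⟨true, v', h1, h2, fun _ => by omega, ⟨s, hs0, h3⟩, fun h0 => absurd ?_ (ha.1 r)⟩
    rw [hr, hv1, f_smul, h0 (by omega), mul_zero, zero_add]

theorem normW {a₀ : F} (ha : IsASRep a₀) {U : Submodule F V} (hU : C.Piece U) {m : ℕ}
    (hh : ∀ x ∈ U, (C.N ^ (m + 1)) x = 0) (halt : ∀ x ∈ U, C.T m x x = 0) {v : V} (hv : v ∈ U)
    (hv0 : (C.N ^ m) v ≠ 0) (bit : Bool)
    (hfalse : bit = false → ∀ j, 2 * j + 2 = m → C.f v j = 0)
    (htrue : bit = true → ∃ j, 2 * j + 2 = m ∧ C.f v j = 1 ∧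
      ∀ x ∈ U, (C.N ^ m) x ≠ 0 → C.f x j ≠ 0) :
    ∃ v' w, v' ∈ U ∧ w ∈ U ∧ C.WData a₀ m bit v' w := by
  obtain ⟨w0, hw0, hT⟩ := C.exists_T_one hU hv hv0
  have hfam : ∀ v' w', v' ∈ U → w' ∈ U → C.T m v' w' = 1 → C.Fam m ![v', w'] := by
    intro v' w' h1 h2 h3
    refine ⟨fun a => by fin_cases a; exacts [hh _ h1, hh _ h2], fun c hc => funext fun a => ?_⟩
    have e0 := hc 0
    have e1 := hc 1
    have h4 : C.B ((C.N ^ m) w') v' = 1 := (C.top_symm (hh _ h1)).trans h3
    simp only [Fin.sum_univ_two, Matrix.cons_val_zero, Matrix.cons_val_one,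
      show C.B ((C.N ^ m) v') v' = 0 from halt _ h1, show C.B ((C.N ^ m) w') w' = 0 from halt _ h2,
      show C.B ((C.N ^ m) v') w' = 1 from h3, h4, mul_zero, mul_one, zero_add, add_zero] at e0 e1
    fin_cases a
    exacts [e1, e0]
  obtain ⟨tv, htv⟩ : ∃ tv : ℕ → F, ∀ J, tv J = if 2 * J + 2 = m ∧ bit = true then 1 else 0 := ⟨_, fun _ => rfl⟩
  obtain ⟨tw, htw⟩ : ∃ tw : ℕ → F, ∀ J, tw J = if 2 * J + 2 = m ∧ bit = true then a₀ else 0 := ⟨_, fun _ => rfl⟩
  rcases Nat.even_or_odd' m with ⟨k, rfl | rfl⟩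
  · -- odd height
    have hc : ∀ x ∈ U, C.B ((C.Z ^ k) x) w0 = C.T (2 * k) x w0 := fun x hx => by
      rw [T, ← C.E_top (hh x hx), E_even]
    obtain ⟨p, hp0, hp⟩ := C.adjust (L := k) v w0 tv (fun j hj => C.f_high (hh _ hw0) (by omega))
      (fun j hj => C.pair_high (hh _ hv) (by omega) _) (by rw [hc _ hv, hT]; exact one_ne_zero)
      (fun j hj => by rw [C.f_high (hh _ hv) (by omega), htv]; exact (if_neg (by omega)).symm) 0
      (fun h1 => by
        rw [htv]
        cases bit
        · simp [hfalse rfl (k - 1) (by omega)]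
        · obtain ⟨j, hj, hj1, -⟩ := htrue rfl
          obtain rfl : j = k - 1 := by omega
          simp [hj1, hj])
    obtain ⟨v', hv'⟩ : ∃ v', v' = v + C.comb k p w0 := ⟨_, rfl⟩
    rw [← hv'] at hp
    have hv'U : v' ∈ U := hv' ▸ add_mem hv (C.mem_comb hU hw0 _ _)
    have hT' : C.T (2 * k) v' w0 = 1 := by
      rw [T, hv', map_add, C.comb_kills' (hh _ hw0) hp0, add_zero]; exact hT
    obtain ⟨w1, hw1, hval⟩ := C.exists_pair (hfam v' w0 hv'U hw0 hT')
      (fun q => if q.1 = 0 ∧ q.2.val = 2 * k then 1 else 0)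
    have hw1U : w1 ∈ U := C.span_le hU (fun a => by fin_cases a; exacts [hv'U, hw0]) hw1
    have hE : ∀ i, C.B (C.E i v') w1 = if i = 2 * k then 1 else 0 := by
      intro i
      rcases Nat.lt_or_ge i (2 * k + 1) with hi | hi
      · simpa [fvec] using hval (0, ⟨i, hi⟩)
      · rw [C.E_zero (hh _ hv'U) hi, map_zero, LinearMap.zero_apply, if_neg (by omega)]
    have hz : ∀ J, C.B ((C.Z ^ J) v') w1 = if J = k then 1 else 0 := fun J => by
      rw [← E_even, hE]; exact if_congr (by omega) rfl rfl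
    have hn : ∀ J, C.B ((C.Z ^ J) (C.N v')) w1 = 0 := fun J => by
      rw [← E_odd, hE, if_neg (by omega)]
    have finish : ∀ (y : V) (r0 : F), y ∈ U → (∀ J, C.B ((C.Z ^ J) v') y = 0) →
        (∀ J, C.B ((C.Z ^ J) (C.N v')) y = 0) → (∀ j, k < j → C.B ((C.Z ^ j) w1) y = 0) →
        C.B ((C.Z ^ k) w1) y ≠ 0 →
        (1 ≤ k → C.f w1 (k - 1) + r0 ^ 2 * C.f y (k - 1) + r0 * C.B ((C.Z ^ k) w1) y = tw (k - 1)) →
        ∃ v' w, v' ∈ U ∧ w ∈ U ∧ C.WData a₀ (2 * k) bit v' w := by
      intro y r0 hy o1 o2 hc1 hc2 h0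
      obtain ⟨r, -, hr⟩ := C.adjust (L := k) w1 y tw (fun j hj => C.f_high (hh _ hy) (by omega)) hc1 hc2
        (fun j hj => by rw [C.f_high (hh _ hw1U) (by omega), htw]; exact (if_neg (by omega)).symm) r0 h0
      have hwU : w1 + C.comb k r y ∈ U := add_mem hw1U (C.mem_comb hU hy _ _)
      refine ⟨v', _, hv'U, hwU, hh _ hv'U, hh _ hwU, fun J => (hp J).trans (htv J), fun J => (hr J).trans (htw J), fun i => ?_⟩
      rw [map_add, hE, C.pair_comb o1 o2, add_zero]
    cases bit
    · refine finish v' (C.f w1 (k - 1)) hv'U (fun J => C.Zpow_alt J v') (fun J => ?_) (fun j hj => ?_) ?_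
        (fun h1 => ?_)
      · rw [← f_eq_N, hp, htv]; simp
      · rw [C.Zpow_adj, C.symm, hz, if_neg (by omega)]
      · rw [C.Zpow_adj, C.symm, hz, if_pos rfl]; exact one_ne_zero
      · rw [C.Zpow_adj, C.symm, hz, if_pos rfl, hp, htv, htw]
        simp [C.add_self]
    · obtain ⟨j, hj, -, hiso⟩ := htrue rfl
      obtain rfl : j = k - 1 := by omega
      have hk : 1 ≤ k := by omega
      obtain ⟨y, hy⟩ : ∃ y, y = v' + (C.N w1 + C.Z w1) := ⟨_, rfl⟩
      have hflip : ∀ J, C.B ((C.Z ^ J) (C.N w1)) v' = C.B ((C.Z ^ (J + 1)) v') w1 := fun J => by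
        have := C.N_flip J v' w1
        rwa [hn, zero_add] at this
      have o1 : ∀ J, C.B ((C.Z ^ J) v') y = 0 := by
        intro J
        rw [hy, map_add, map_add, C.Zpow_alt, zero_add, C.Zpow_adj J v' (C.N w1), C.symm v', hflip,
          show C.Z w1 = (C.Z ^ 1) w1 by rw [pow_one], C.Zpow_merge, C.add_self]
      have o2 : ∀ J, C.B ((C.Z ^ J) (C.N v')) y = 0 := by
        intro J
        rw [hy, map_add, map_add, ← f_eq_N, hp, ← C.N_Zpow J v', C.NN_adj, C.N_Zpow,
          show C.Z w1 = (C.Z ^ 1) w1 by rw [pow_one], C.Zpow_merge, hn, add_zero, ← Module.End.mul_apply,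
          ← pow_succ', hz, htv]
        by_cases hJ : J + 1 = k
        · rw [if_pos ⟨by omega, rfl⟩, if_pos hJ]; exact C.add_self _
        · rw [if_neg (fun h => hJ (by omega)), if_neg hJ, add_zero]
      have hcy : ∀ J, C.B ((C.Z ^ J) w1) y = (if J = k then 1 else 0) + C.f w1 J := by
        intro J
        rw [hy, map_add, map_add, show C.Z w1 = (C.Z ^ 1) w1 by rw [pow_one], C.Zpow_merge, C.Zpow_alt, add_zero,
          C.Zpow_adj J w1 (C.N w1), C.symm w1, ← f_eq_N, C.Zpow_adj J w1 v', C.symm w1, hz]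
      have fk : C.f w1 k = 0 := C.f_high (hh _ hw1U) (by omega)
      have hfy : C.f y (k - 1) = 1 := by
        rw [hy, f_add, f_add, f_N, show C.Z w1 = (C.Z ^ 1) w1 by rw [pow_one], f_Zpow, show k - 1 + 1 = k by omega,
          fk, C.f_high (hh _ hw1U) (show 2 * k + 1 ≤ 2 * (k - 1 + 2 * 1) + 1 by omega), hp, htv, C.Zpow_merge,
          map_add, C.Zpow_merge, C.pair_high (hh _ hv'U) (show 2 * k + 1 ≤ 2 * (k + 1) by omega),
          C.Zpow_adj k v' (C.N w1), C.symm v', hflip, hz, if_neg (show k + 1 ≠ k by omega),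
          C.pair_high (hh _ (hU.inv _ hw1U)) (show 2 * k + 1 ≤ 2 * (k + 1) by omega)]
        rw [if_pos ⟨by omega, rfl⟩]
        simp
      have hyU : y ∈ U := hy ▸ add_mem hv'U (add_mem (hU.inv _ hw1U) (by
        rw [show C.Z w1 = (C.Z ^ 1) w1 by rw [pow_one]]; exact C.mem_Zpow hU hw1U 1))
      rcases ha.2 (C.f w1 (k - 1)) with ⟨r, hr⟩ | ⟨r, hr⟩
      · refine absurd ?_ (hiso (w1 + r • v') (add_mem hw1U (U.smul_mem _ hv'U)) fun h0 => ?_)
        · rw [f_add, f_smul, map_smul, smul_eq_mul, show k - 1 + 1 = k by omega, C.Zpow_adj k w1 v', C.symm w1, hz,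
            if_pos rfl, hp, htv, if_pos ⟨by omega, rfl⟩, mul_one, mul_one, add_assoc, hr, C.add_self]
        · have e : C.T (2 * k) (w1 + r • v') v' = 0 := by rw [T, h0, map_zero, LinearMap.zero_apply]
          rw [T_add_left, T_smul_left, halt _ hv'U, mul_zero, add_zero, C.T_symm (hh _ hv'U), T,
            ← C.E_top (hh _ hv'U), hE, if_pos rfl] at e
          exact one_ne_zero e
      · refine finish y r hyU o1 o2 (fun j hj => ?_) ?_ (fun _ => ?_)
        · rw [hcy, if_neg (by omega), C.f_high (hh _ hw1U) (by omega), add_zero]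
        · rw [hcy, if_pos rfl, fk, add_zero]; exact one_ne_zero
        · rw [hfy, hcy, if_pos rfl, fk, add_zero, htw, mul_one, mul_one, add_assoc, hr, ← add_assoc, C.add_self,
            zero_add]
          exact (if_pos ⟨by omega, rfl⟩).symm
  · -- even height
    have hb : bit = false := by
      cases bit
      · rfl
      · obtain ⟨j, hj, -⟩ := htrue rfl; omega
    subst hb
    have ht0 : ∀ J, tv J = 0 := fun J => by simp [htv]
    have hw0' : ∀ J, tw J = 0 := fun J => by simp [htw]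
    have htop : ∀ x ∈ U, C.f x k = 0 := fun x hx => (C.f_top (hh x hx)).trans (halt x hx)
    have hck : C.B ((C.Z ^ k) v) (C.N w0) = 1 := by
      have h := C.N_flip k v w0
      rw [C.pair_high (hh _ hv) (show 2 * k + 1 + 1 ≤ 2 * (k + 1) by omega), ← C.E_odd k v, C.E_top (hh _ hv),
        show C.B ((C.N ^ (2 * k + 1)) v) w0 = 1 from hT] at h
      rw [C.Zpow_adj, C.symm, ← C.neg_eq 1]
      exact eq_neg_of_add_eq_zero_right h
    obtain ⟨p, -, hp⟩ := C.adjust (L := k) v (C.N w0) tv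
      (fun j hj => by rw [f_N]; exact C.f_high (hh _ hw0) (by omega))
      (fun j hj => C.pair_high (hh _ hv) (by omega) _) (by rw [hck]; exact one_ne_zero)
      (fun j hj => by
        rw [ht0]
        rcases hj.eq_or_lt with rfl | hlt
        · exact htop v hv
        · exact C.f_high (hh _ hv) (by omega))
      (C.f v (k - 1)) (fun h1 => by
        rw [f_N, show k - 1 + 1 = k by omega, htop _ hw0, hck, ht0, mul_zero, add_zero, mul_one, C.add_self])
    obtain ⟨v', hv'⟩ : ∃ v', v' = v + C.comb k p (C.N w0) := ⟨_, rfl⟩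
    rw [← hv'] at hp
    have hv'U : v' ∈ U := hv' ▸ add_mem hv (C.mem_comb hU (hU.inv _ hw0) _ _)
    have hT' : C.T (2 * k + 1) v' w0 = 1 := by
      rw [T, hv', map_add, C.comb_kills (by rw [← Module.End.mul_apply, ← pow_succ]; exact hh _ hw0), add_zero]
      exact hT
    obtain ⟨w1, hw1, hval⟩ := C.exists_pair (hfam v' w0 hv'U hw0 hT')
      (fun q => if q.1 = 0 ∧ q.2.val = 2 * k + 1 then 1 else 0)
    have hw1U : w1 ∈ U := C.span_le hU (fun a => by fin_cases a; exacts [hv'U, hw0]) hw1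
    have hE : ∀ i, C.B (C.E i v') w1 = if i = 2 * k + 1 then 1 else 0 := by
      intro i
      rcases Nat.lt_or_ge i (2 * k + 1 + 1) with hi | hi
      · simpa [fvec] using hval (0, ⟨i, hi⟩)
      · rw [C.E_zero (hh _ hv'U) hi, map_zero, LinearMap.zero_apply, if_neg (by omega)]
    have hcy : ∀ J, C.B ((C.Z ^ J) w1) (C.N v') = if J = k then 1 else 0 := fun J => by
      rw [C.Zpow_adj, C.symm, ← E_odd, hE]; exact if_congr (by omega) rfl rfl
    obtain ⟨r, -, hr⟩ := C.adjust (L := k) w1 (C.N v') tw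
      (fun j hj => by rw [f_N, hp, ht0])
      (fun j hj => by rw [hcy, if_neg (by omega)]) (by rw [hcy, if_pos rfl]; exact one_ne_zero)
      (fun j hj => by
        rw [hw0']
        rcases hj.eq_or_lt with rfl | hlt
        · exact htop _ hw1U
        · exact C.f_high (hh _ hw1U) (by omega))
      (C.f w1 (k - 1)) (fun h1 => by
        rw [f_N, hp, ht0, hcy, if_pos rfl, hw0', mul_zero, add_zero, mul_one, C.add_self])
    have hwU : w1 + C.comb k r (C.N v') ∈ U := add_mem hw1U (C.mem_comb hU (hU.inv _ hv'U) _ _)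
    refine ⟨v', _, hv'U, hwU, hh _ hv'U, hh _ hwU, fun J => (hp J).trans (htv J), fun J => (hr J).trans (htw J), fun i => ?_⟩
    rw [map_add, hE, C.pair_comb (fun J => ?_) (fun J => ?_), add_zero]
    · rw [C.Zpow_adj, C.symm, ← f_eq_N, hp, ht0]
    · rw [← C.N_Zpow, C.NN_adj, ← Module.End.mul_apply, ← pow_succ', C.Zpow_alt]

/-! ## Facts about the blocks of a form -/

omit [Finite F] in
theorem block_mem {a₀ : F} : ∀ {L : List Blk} {U : Submodule F V}, C.HasForm a₀ L U → ∀ b ∈ L,
    ∃ S, C.BlkData a₀ b S ∧ S ≤ U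
  | [], _, _, b, hb => by simp at hb
  | a :: R, U, ⟨S, hS, hSU, hR⟩, b, hb => by
    rcases List.mem_cons.1 hb with rfl | hb
    · exact ⟨S, hS, hSU⟩
    · obtain ⟨S', h1, h2⟩ := block_mem hR b hb
      exact ⟨S', h1, h2.trans inf_le_left⟩

omit [Finite F] in
theorem ht_le {a₀ : F} {L : List Blk} {U : Submodule F V} {m : ℕ} (hh : ∀ x ∈ U, (C.N ^ (m + 1)) x = 0)
    (hL : C.HasForm a₀ L U) : ∀ b ∈ L, b.ht ≤ m + 1 := by
  intro b hb
  obtain ⟨S, hS, hSU⟩ := C.block_mem hL b hb
  obtain ⟨r, m', x, hx, rfl, e, -, hr⟩ := BlkData.exists_fam C hS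
  by_contra hlt
  have h0 : (fun _ : Fin r => (1 : F)) = 0 := hx.top _ fun c => sum_eq_zero fun a _ => by
    rw [C.Npow_zero (hh _ (hSU (C.mem_spanE_self x a))) (by omega), map_zero, LinearMap.zero_apply, mul_zero]
  exact one_ne_zero (congrFun h0 ⟨0, hr⟩)

omit [Finite F] in
theorem T_cross {U S : Submodule F V} (hS : C.Piece S) {m : ℕ} (hh : ∀ x ∈ U, (C.N ^ (m + 1)) x = 0)
    {s r : V} (hs : s ∈ S) (hr : r ∈ U ⊓ C.orth S) : C.T m s r = 0 ∧ C.T m r s = 0 := by
  have h : C.T m s r = 0 := C.mem_orth.1 hr.2 _ (C.mem_Npow hS hs m)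
  exact ⟨h, by rw [T, ← C.top_symm (hh r hr.1)]; exact h⟩

omit [Finite F] in
theorem alt_of_paired {a₀ : F} {m : ℕ} : ∀ {L : List Blk} {U : Submodule F V}, C.Piece U → C.HasForm a₀ L U →
    (∀ x ∈ U, (C.N ^ (m + 1)) x = 0) → (∀ b ∈ L, b.ht = m + 1 → b.isV = false) → ∀ y ∈ U, C.T m y y = 0
  | [], U, _, h, _, _, y, hy => by
    obtain rfl : U = ⊥ := h
    rw [(Submodule.mem_bot F).1 hy, T, map_zero]
  | a :: R, U, hU, ⟨S, hS, hSU, hR⟩, hh, hk, y, hy => by
    obtain ⟨r, m', x, hx, hSx, hm', -, hr⟩ := BlkData.exists_fam C hS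
    subst hSx
    have hxU : ∀ i, x i ∈ U := fun i => hSU (C.mem_spanE_self x i)
    obtain ⟨hrest, hsup⟩ := C.rest hU hx hxU
    rw [← hsup] at hy
    obtain ⟨s, hs, t, ht, rfl⟩ := Submodule.mem_sup.1 hy
    obtain ⟨c1, c2⟩ := C.T_cross (C.span_piece hx) hh hs ht
    rw [T_add_left, T_add_right, T_add_right, c1, c2,
      alt_of_paired hrest hR (fun z hz => hh z hz.1) (fun b hb => hk b (List.mem_cons_of_mem _ hb)) t ht]
    have hs0 : C.T m s s = 0 := by
      have hle := C.ht_le hh (show C.HasForm a₀ (a :: R) U from ⟨_, hS, hSU, hR⟩) a (by simp)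
      rcases Nat.lt_or_ge m' m with hlt | hge
      · have : ∀ z ∈ C.spanE m' x, (C.N ^ m) z = 0 := by
          intro z hz
          induction hz using Submodule.span_induction with
          | mem z hz =>
            obtain ⟨p, rfl⟩ := hz
            exact C.Npow_E_zero (hx.height p.1) (by omega)
          | zero => exact map_zero _
          | add a b _ _ ha hb => rw [map_add, ha, hb, add_zero]
          | smul c a _ ha => rw [map_smul, ha, smul_zero]
        rw [T, this s hs, map_zero, LinearMap.zero_apply]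
      · obtain rfl : m' = m := by omega
        have hv : a.isV = false := hk a (by simp) hm'
        obtain ⟨S0, hS0⟩ : ∃ S0, S0 = C.spanE m' x := ⟨_, rfl⟩
        rw [← hS0] at hS hs hSU
        rw [BlkData, if_neg (by simp [hv])] at hS
        obtain ⟨m'', v, w, hm'', hd, hS'⟩ := hS
        obtain rfl : m'' = m' := by omega
        rw [hS'] at hs hSU
        obtain ⟨t1, t2, -, -⟩ := WData.tops C hd
        have key : ∀ z ∈ C.spanE m'' ![v, w], C.T m'' z z = 0 := by
          intro z hz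
          induction hz using Submodule.span_induction with
          | mem z hz =>
            obtain ⟨⟨i, l⟩, rfl⟩ := hz
            rcases Nat.eq_zero_or_pos l.val with h0 | h0
            · have e0 : C.fvec m'' ![v, w] (i, l) = ![v, w] i := by simp [fvec, E, h0]
              rw [e0]
              fin_cases i
              exacts [t1, t2]
            · rw [T, fvec, C.Npow_E_zero ((WData.fam C hd).height i) (by simp only; omega), map_zero,
                LinearMap.zero_apply]
          | zero => rw [T, map_zero]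
          | add p q hp hq ihp ihq =>
            rw [T_add_left, T_add_right, T_add_right, ihp, ihq, C.T_symm (hh q (hSU hq)), zero_add, add_zero]
            exact C.add_self _
          | smul c p _ ihp => rw [T_smul_left, T_smul_right, ihp, mul_zero, mul_zero]
        exact key s hs
    rw [hs0]
    simp

omit [Finite F] in
/-- Blocks of lower height only. -/
theorem kill_of_low {a₀ : F} {m : ℕ} : ∀ {L : List Blk} {U : Submodule F V}, C.Piece U → C.HasForm a₀ L U →
    (∀ b ∈ L, b.ht ≤ m) → ∀ y ∈ U, (C.N ^ m) y = 0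
  | [], U, _, h, _, y, hy => by
    obtain rfl : U = ⊥ := h
    rw [(Submodule.mem_bot F).1 hy, map_zero]
  | a :: R, U, hU, ⟨S, hS, hSU, hR⟩, hle, y, hy => by
    obtain ⟨r, m', x, hx, hSx, hm', -, -⟩ := BlkData.exists_fam C hS
    subst hSx
    have hxU : ∀ i, x i ∈ U := fun i => hSU (C.mem_spanE_self x i)
    obtain ⟨hrest, hsup⟩ := C.rest hU hx hxU
    rw [← hsup] at hy
    obtain ⟨s, hs, t, ht, rfl⟩ := Submodule.mem_sup.1 hy
    rw [map_add, kill_of_low hrest hR (fun b hb => hle b (List.mem_cons_of_mem _ hb)) t ht, add_zero]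
    have ha := hle a (by simp)
    suffices h : ∀ z ∈ C.spanE m' x, (C.N ^ m) z = 0 from h s hs
    intro z hz
    induction hz using Submodule.span_induction with
    | mem z hz =>
      obtain ⟨p, rfl⟩ := hz
      exact C.Npow_E_zero (hx.height p.1) (by omega)
    | zero => exact map_zero _
    | add p q _ _ hp hq => rw [map_add, hp, hq, add_zero]
    | smul c p _ hp => rw [map_smul, hp, smul_zero]

/-- The scalar of an element of a cyclic block at the top. -/
theorem span_top {m : ℕ} {v : V} (hv : (C.N ^ (m + 1)) v = 0) {s : V} (hs : s ∈ C.spanE m ![v]) :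
    ∃ c : F, (C.N ^ m) s = c • (C.N ^ m) v := by
  induction hs using Submodule.span_induction with
  | mem z hz =>
    obtain ⟨⟨i, l⟩, rfl⟩ := hz
    rw [fvec, Fin.fin_one_eq_zero i]
    rcases Nat.eq_zero_or_pos l.val with h0 | h0
    · exact ⟨1, by simp [E, h0]⟩
    · exact ⟨0, by rw [zero_smul]; exact C.Npow_E_zero hv (by simp only; omega)⟩
  | zero => exact ⟨0, by rw [map_zero, zero_smul]⟩
  | add p q _ _ hp hq =>
    obtain ⟨a, ha⟩ := hp; obtain ⟨b, hb⟩ := hq
    exact ⟨a + b, by rw [map_add, ha, hb, add_smul]⟩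
  | smul c p _ hp => obtain ⟨a, ha⟩ := hp; exact ⟨c * a, by rw [map_smul, ha, smul_smul]⟩

/-! ## The decomposition -/

theorem exists_form {a₀ : F} (ha : IsASRep a₀) :
    ∀ (n : ℕ) {U : Submodule F V}, C.Piece U → finrank F U = n → ∃ L, Adm L ∧ C.HasForm a₀ L U := by
  classical
  intro n
  induction n using Nat.strongRecOn with
  | _ n ih =>
  intro U hU hn
  by_cases h0 : U = ⊥
  · exact ⟨[], trivial, h0⟩
  have hex : ∃ d, ∀ x ∈ U, (C.N ^ d) x = 0 := by
    obtain ⟨d, hd⟩ := C.nil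
    exact ⟨d, fun x _ => by show ((C.φ - 1) ^ d) x = 0; rw [hd]; rfl⟩
  obtain ⟨m, hm⟩ : ∃ m, Nat.find hex = m + 1 := by
    refine ⟨Nat.find hex - 1, (Nat.sub_add_cancel (Nat.pos_of_ne_zero fun e => h0 ?_)).symm⟩
    exact (Submodule.eq_bot_iff _).2 fun x hx => by simpa [e] using Nat.find_spec hex x hx
  have hh : ∀ x ∈ U, (C.N ^ (m + 1)) x = 0 := hm ▸ Nat.find_spec hex
  obtain ⟨v₁, hv₁, hv₁0⟩ : ∃ x ∈ U, (C.N ^ m) x ≠ 0 := by
    by_contra! h
    exact absurd (Nat.find_min' hex h) (by omega)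
  have recur : ∀ {r : ℕ} {x : Fin r → V}, C.Fam m x → (∀ i, x i ∈ U) → 1 ≤ r →
      ∃ R, Adm R ∧ C.HasForm a₀ R (U ⊓ C.orth (C.spanE m x)) := by
    intro r x hx hxU hr
    refine ih _ ?_ (C.rest hU hx hxU).1 rfl
    have := C.finrank_rest hU hx hxU
    have : 1 ≤ r * (m + 1) := Nat.mul_pos hr m.succ_pos
    omega
  by_cases halt : ∀ x ∈ U, C.T m x x = 0
  · -- only paired blocks on top
    obtain ⟨bit, v, hv, hv0, hfalse, htrue⟩ : ∃ bit v, v ∈ U ∧ (C.N ^ m) v ≠ 0 ∧
        (bit = false → ∀ j, 2 * j + 2 = m → C.f v j = 0) ∧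
        (bit = true → ∃ j, 2 * j + 2 = m ∧ C.f v j = 1 ∧ ∀ x ∈ U, (C.N ^ m) x ≠ 0 → C.f x j ≠ 0) := by
      by_cases hj : ∃ j, 2 * j + 2 = m
      · obtain ⟨j, hj⟩ := hj
        by_cases hiso : ∃ x ∈ U, (C.N ^ m) x ≠ 0 ∧ C.f x j = 0
        · obtain ⟨x, h1, h2, h3⟩ := hiso
          refine ⟨false, x, h1, h2, fun _ j' hj' => ?_, fun h => by simp at h⟩
          rwa [show j' = j by omega]
        · push Not at hiso
          obtain ⟨s, hs⟩ := exists_sqrt C.two (C.f v₁ j)⁻¹
          have hs0 : s ≠ 0 := fun e => inv_ne_zero (hiso v₁ hv₁ hv₁0) (by rw [← hs, e]; simp)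
          refine ⟨true, s • v₁, U.smul_mem _ hv₁, ?_, fun h => by simp at h, fun _ => ⟨j, hj, ?_, hiso⟩⟩
          · rw [map_smul]; exact smul_ne_zero hs0 hv₁0
          · rw [f_smul, hs, inv_mul_cancel₀ (hiso v₁ hv₁ hv₁0)]
      · exact ⟨false, v₁, hv₁, hv₁0, fun _ j h => absurd ⟨j, h⟩ hj, fun h => by simp at h⟩
    obtain ⟨v', w, hv', hw, hd⟩ := C.normW ha hU hh halt hv hv0 bit hfalse htrue
    have hfam := WData.fam C hd
    have hmem : ∀ i, ![v', w] i ∈ U := fun i => by fin_cases i; exacts [hv', hw]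
    obtain ⟨R, hRA, hR⟩ := recur hfam hmem (by omega)
    have hblk : C.BlkData a₀ ⟨m + 1, false, bit⟩ (C.spanE m ![v', w]) := by
      rw [BlkData, if_neg (by simp)]
      exact ⟨m, v', w, rfl, hd, rfl⟩
    refine ⟨⟨m + 1, false, bit⟩ :: R, ⟨hRA, ?_, fun b hb => ⟨C.ht_le (fun x hx => hh x (Submodule.mem_inf.1 hx).1) hR b hb, ?_⟩, ?_⟩,
      _, hblk, C.span_le hU hmem, hR⟩
    · refine ⟨m.succ_pos, fun h => by simp at h, fun hb => ?_⟩
      simp only at hb
      obtain ⟨j, hj, -⟩ := htrue hb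
      exact ⟨by simp only; omega, fun _ => ⟨j + 1, by simp only; omega⟩⟩
    · intro e
      show b.isV = false
      by_contra hv
      rw [Bool.not_eq_false] at hv
      obtain ⟨S, hS, hSU⟩ := C.block_mem hR b hb
      rw [BlkData, if_pos hv] at hS
      obtain ⟨k, u, hk, hu, rfl⟩ := hS
      simp only at e
      obtain rfl : m = 2 * k + 1 := by omega
      have h1 := halt u (hSU (C.mem_spanE_self ![u] 0)).1
      rw [T, ← C.f_top hu.1, hu.2, if_pos rfl] at h1
      exact one_ne_zero h1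
    · intro hbt b hb hlink
      simp only at hbt
      obtain ⟨j, hj, -, hiso⟩ := htrue hbt
      obtain ⟨hdv, hdw, fv, fw, hE⟩ := hd
      subst hbt
      have hfv : C.f v' j = 1 := by rw [fv, if_pos ⟨hj, rfl⟩]
      -- a vector of the rest cancelling the bit
      obtain ⟨y, hy, hy0⟩ : ∃ y ∈ U ⊓ C.orth (C.spanE m ![v', w]), C.f y j = 1 := by
        obtain ⟨S, hS, hSU⟩ := C.block_mem hR b hb
        rw [BlkData] at hS
        split_ifs at hS with hv
        · obtain ⟨k, u, hk, hu, rfl⟩ := hS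
          refine ⟨u, hSU (C.mem_spanE_self ![u] 0), ?_⟩
          rcases hlink with e | ⟨e, -⟩ | ⟨-, -, e⟩
          · simp only at e; omega
          · simp at e
          · simp only at e
            rw [hu.2, if_pos (by omega)]
        · obtain ⟨m', u, u', hk, hu, rfl⟩ := hS
          rcases hlink with e | ⟨e, -⟩ | ⟨-, e, -⟩
          · simp only at e
            obtain rfl : m = m' := by omega
            obtain ⟨-, -, fu, fu', huu⟩ := hu
            have m1 := hSU (C.mem_spanE_self ![u, u'] 0)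
            have m2 := hSU (C.mem_spanE_self ![u, u'] 1)
            cases hbb : b.bit
            · refine ⟨u + u', add_mem m1 m2, ?_⟩
              rw [f_add, fu, fu', if_neg (by simp [hbb]), if_neg (by simp [hbb]), add_zero, zero_add, ← E_even, huu,
                if_pos (by omega)]
            · exact ⟨u, m1, by rw [fu, if_pos ⟨hj, hbb⟩]⟩
          · simp at e
          · exact absurd e hv
      refine hiso (v' + y) (add_mem hv' hy.1) (fun h => ?_) ?_
      · have e1 : C.T m (v' + y) w = 0 := by rw [T, h, map_zero, LinearMap.zero_apply]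
        have hwS : w ∈ C.spanE m ![v', w] := C.mem_spanE_self ![v', w] 1
        rw [T_add_left, (C.T_cross (C.span_piece hfam) hh hwS hy).2, add_zero, T,
          ← C.E_top hdv, hE, if_pos rfl] at e1
        exact one_ne_zero e1
      · rw [f_add, hfv, hy0, C.add_self, zero_add]
        exact C.mem_orth.1 hy.2 _ (C.mem_Zpow (C.span_piece hfam) (C.mem_spanE_self ![v', w] 0) _)
  · -- a cyclic block on top
    push Not at halt
    obtain ⟨x₀, hx₀, hx₀T⟩ := halt
    obtain ⟨k, rfl⟩ : ∃ k, m = 2 * k + 1 := by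
      rcases Nat.even_or_odd' m with ⟨k, rfl | rfl⟩
      · exfalso; rw [T, ← C.E_top (hh _ hx₀), C.E_self, if_pos (by omega)] at hx₀T; exact hx₀T rfl
      · exact ⟨k, rfl⟩
    set m := 2 * k + 1 with hm'
    have hTtop : ∀ {bit : Bool} {v : V}, C.VData a₀ k bit v → C.T m v v = 1 := fun {bit v} h => by
      rw [T, hm', ← C.f_top h.1, h.2, if_pos rfl]
    -- elements with the same top class
    have kind_of : ∀ {v v' : V} {s : F}, s ≠ 0 → (C.N ^ m) v' = s • (C.N ^ m) v → C.Kind U m v → C.Kind U m v' := by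
      intro v v' s hs e hK
      have hTs : ∀ y, C.T m v' y = s * C.T m v y := fun y => by
        rw [T, T, e, map_smul, LinearMap.smul_apply, smul_eq_mul]
      have hz : ∀ y, C.T m v' y = 0 → C.T m v y = 0 := fun y h => by
        rw [hTs] at h; exact (mul_eq_zero.1 h).resolve_left hs
      rcases hK with h | ⟨y, hy, hy1, hy2⟩
      · exact Or.inl fun y hy h' => h y hy (hz y h')
      · exact Or.inr ⟨y, hy, by rw [hTs, hy1, mul_zero], hy2⟩
    obtain ⟨vK, hvK, hvKT, hK⟩ : ∃ v ∈ U, C.T m v v ≠ 0 ∧ C.Kind U m v := by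
      obtain ⟨bit, v, hv, hd, -⟩ := C.normV ha hU hh hx₀ hx₀T
      have hfam := VData.fam C hd
      have hmem : ∀ i, ![v] i ∈ U := fun i => by rw [Fin.fin_one_eq_zero i]; exact hv
      obtain ⟨R, hRA, hR⟩ := recur hfam hmem le_rfl
      obtain ⟨hrest, hsup⟩ := C.rest hU hfam hmem
      have hv1 := hTtop hd
      have hvS : v ∈ C.spanE m ![v] := C.mem_spanE_self ![v] 0
      by_cases hW : ∃ b ∈ R, b.ht = m + 1 ∧ b.isV = false
      · obtain ⟨b, hb, hbm, hbv⟩ := hW
        obtain ⟨S, hS, hSU⟩ := C.block_mem hR b hb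
        rw [BlkData, if_neg (by simp [hbv])] at hS
        obtain ⟨m', e, g, hk', hdW, rfl⟩ := hS
        obtain rfl : m = m' := by omega
        obtain ⟨t1, t2, t3, t4⟩ := WData.tops C hdW
        have he : e ∈ U ⊓ C.orth (C.spanE m ![v]) := hSU (C.mem_spanE_self ![e, g] 0)
        have hg : g ∈ U ⊓ C.orth (C.spanE m ![v]) := hSU (C.mem_spanE_self ![e, g] 1)
        obtain ⟨c1, c2⟩ := C.T_cross (C.span_piece hfam) hh hvS he
        obtain ⟨c3, -⟩ := C.T_cross (C.span_piece hfam) hh hvS hg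
        obtain ⟨-, c4⟩ := C.T_cross (C.span_piece hfam) hh hvS hg
        refine ⟨v + e, add_mem hv he.1, ?_, Or.inr ⟨v + g, add_mem hv hg.1, ?_, ?_⟩⟩
        · rw [T_add_left, T_add_right, T_add_right, hv1, show C.T m e e = 0 from t1]
          rw [c1, c2]; simp
        · rw [T_add_left, T_add_right, T_add_right, hv1, show C.T m e g = 1 from t3]
          rw [c2, c3]; simp [C.add_self]
        · rw [T_add_left, T_add_right, T_add_right, hv1, show C.T m g g = 0 from t2]
          rw [c3, c4]; simp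
      · push Not at hW
        refine ⟨v, hv, by rw [hv1]; exact one_ne_zero, ?_⟩
        by_cases hV : ∃ b ∈ R, b.ht = m + 1
        · obtain ⟨b, hb, hbm⟩ := hV
          obtain ⟨S, hS, hSU⟩ := C.block_mem hR b hb
          rw [BlkData, if_pos (by simpa using hW b hb hbm)] at hS
          obtain ⟨k', u, hk', hu, rfl⟩ := hS
          obtain rfl : k = k' := by omega
          have hu' := hSU (C.mem_spanE_self ![u] 0)
          exact Or.inr ⟨u, hu'.1, (C.T_cross (C.span_piece hfam) hh hvS hu').1, by rw [hTtop hu]; exact one_ne_zero⟩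
        · push Not at hV
          refine Or.inl fun y hy hvy z hz => ?_
          rw [← hsup] at hy hz
          obtain ⟨s, hs, t, ht, rfl⟩ := Submodule.mem_sup.1 hy
          obtain ⟨c, hc⟩ := C.span_top (hh v hv) hs
          rw [T_add_right, (C.T_cross (C.span_piece hfam) hh hvS ht).1, add_zero,
            C.T_symm (hh s (hsup ▸ Submodule.mem_sup_left hs)), T, hc, map_smul, LinearMap.smul_apply, smul_eq_mul,
            show C.B ((C.N ^ m) v) v = 1 from hv1, mul_one] at hvy
          have hzero : (C.N ^ m) s = 0 := by rw [hc, hvy, zero_smul]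
          have ht0 : ∀ u ∈ U ⊓ C.orth (C.spanE m ![v]), C.T m t u = 0 := by
            intro u hu
            have hred : ∀ b ∈ R, b.ht ≤ m := fun b hb => by
              have := C.ht_le (fun x hx => hh x (Submodule.mem_inf.1 hx).1) hR b hb
              have := hV b hb
              omega
            rw [T, show (C.N ^ m) t = 0 from C.kill_of_low hrest hR hred t ht, map_zero, LinearMap.zero_apply]
          obtain ⟨s', hs', u, hu, rfl⟩ := Submodule.mem_sup.1 hz
          rw [T_add_left, T, hzero, map_zero, LinearMap.zero_apply, zero_add, T_add_right, ht0 u hu,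
            (C.T_cross (C.span_piece hfam) hh hs' ht).2, add_zero]
    obtain ⟨bit, v, hv, hd, hK', hgood⟩ : ∃ bit v, v ∈ U ∧ C.VData a₀ k bit v ∧ C.Kind U m v ∧
        (bit = true → 1 ≤ k ∧ ¬∃ x ∈ U, C.T m x x ≠ 0 ∧ C.Kind U m x ∧ C.f x (k - 1) = 0) := by
      by_cases hP : ∃ x ∈ U, C.T m x x ≠ 0 ∧ C.Kind U m x ∧ C.f x (k - 1) = 0
      · obtain ⟨x, hx, hxT, hxK, hxf⟩ := hP
        obtain ⟨bit, v, hv, hd, -, ⟨s, hs, e⟩, hb⟩ := C.normV ha hU hh hx hxT
        exact ⟨bit, v, hv, hd, kind_of hs e hxK, fun h => by rw [hb fun _ => hxf] at h; simp at h⟩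
      · obtain ⟨bit, v, hv, hd, hbk, ⟨s, hs, e⟩, -⟩ := C.normV ha hU hh hvK hvKT
        exact ⟨bit, v, hv, hd, kind_of hs e hK, fun h => ⟨hbk h, hP⟩⟩
    have hfam := VData.fam C hd
    have hmem : ∀ i, ![v] i ∈ U := fun i => by rw [Fin.fin_one_eq_zero i]; exact hv
    obtain ⟨R, hRA, hR⟩ := recur hfam hmem le_rfl
    obtain ⟨hrest, hsup⟩ := C.rest hU hfam hmem
    have hv1 := hTtop hd
    have hvS : v ∈ C.spanE m ![v] := C.mem_spanE_self ![v] 0
    have hkinds : ∀ b ∈ R, b.ht = m + 1 → b.isV = true := by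
      intro b hb e
      by_contra hbv
      rw [Bool.not_eq_true] at hbv
      rcases hK' with h | ⟨y, hy, hy1, hy2⟩
      · obtain ⟨S, hS, hSU⟩ := C.block_mem hR b hb
        rw [BlkData, if_neg (by simp [hbv])] at hS
        obtain ⟨m', p, q, hk', hdW, rfl⟩ := hS
        obtain rfl : m = m' := by omega
        have hp := hSU (C.mem_spanE_self ![p, q] 0)
        have hq := hSU (C.mem_spanE_self ![p, q] 1)
        have := h p hp.1 (C.T_cross (C.span_piece hfam) hh hvS hp).1 q hq.1
        rw [T, show C.B ((C.N ^ m) p) q = 1 from (WData.tops C hdW).2.2.1] at this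
        exact one_ne_zero this
      · have hall : ∀ c ∈ R, c.ht = m + 1 → c.isV = false := fun c hc e' =>
          (adm_kind hRA c hc b hb (e'.trans e.symm)).trans hbv
        rw [← hsup] at hy
        obtain ⟨s, hs, t, ht, rfl⟩ := Submodule.mem_sup.1 hy
        obtain ⟨c, hc⟩ := C.span_top (hh v hv) hs
        rw [T_add_right, (C.T_cross (C.span_piece hfam) hh hvS ht).1, add_zero,
          C.T_symm (hh s (hsup ▸ Submodule.mem_sup_left hs)), T, hc, map_smul, LinearMap.smul_apply, smul_eq_mul,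
          show C.B ((C.N ^ m) v) v = 1 from hv1, mul_one] at hy1
        refine hy2 ?_
        obtain ⟨c1, c2⟩ := C.T_cross (C.span_piece hfam) hh hs ht
        rw [T_add_left, T_add_right, T_add_right, c1, c2, C.alt_of_paired hrest hR (fun x hx => hh x (Submodule.mem_inf.1 hx).1) hall t ht,
          T, hc, hy1, zero_smul, map_zero, LinearMap.zero_apply]
        simp
    have hblk : C.BlkData a₀ ⟨m + 1, true, bit⟩ (C.spanE m ![v]) := by
      rw [BlkData, if_pos rfl]
      exact ⟨k, v, rfl, hd, rfl⟩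
    refine ⟨⟨m + 1, true, bit⟩ :: R, ⟨hRA, ?_, fun b hb => ⟨C.ht_le (fun x hx => hh x (Submodule.mem_inf.1 hx).1) hR b hb,
      fun e => hkinds b hb e⟩, ?_⟩, _, hblk, C.span_le hU hmem, hR⟩
    · refine ⟨m.succ_pos, fun _ => ⟨k + 1, by simp only; omega⟩, fun hb => ⟨?_, fun h => by simp at h⟩⟩
      simp only at hb
      have := (hgood hb).1
      simp only; omega
    · intro hbt b hb hlink
      simp only at hbt
      obtain ⟨hk1, hno⟩ := hgood hbt
      subst hbt
      have fk : C.f v k = 1 := by rw [hd.2, if_pos rfl]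
      have hSorth : ∀ {z : V}, z ∈ U ⊓ C.orth (C.spanE m ![v]) → ∀ J, C.B ((C.Z ^ J) v) z = 0 := fun hz J =>
        C.mem_orth.1 hz.2 _ (C.mem_Zpow (C.span_piece hfam) hvS J)
      obtain ⟨S, hS, hSU⟩ := C.block_mem hR b hb
      rw [BlkData] at hS
      -- moving by a vector of lower height
      have lower : ∀ y ∈ U ⊓ C.orth (C.spanE m ![v]), (C.N ^ m) y = 0 → C.f y (k - 1) = C.f v (k - 1) → False := by
        intro y hy hy0 hyf
        have hNm : (C.N ^ m) (v + y) = (1 : F) • (C.N ^ m) v := by rw [map_add, hy0, add_zero, one_smul]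
        refine hno ⟨v + y, add_mem hv hy.1, ?_, kind_of one_ne_zero hNm hK', ?_⟩
        · rw [T, hNm, one_smul, map_add, show C.B ((C.N ^ m) v) v = 1 from hv1,
            show C.B ((C.N ^ m) v) y = 0 from (C.T_cross (C.span_piece hfam) hh hvS hy).1, add_zero]
          exact one_ne_zero
        · rw [f_add, hyf, C.add_self, zero_add]; exact hSorth hy _
      split_ifs at hS with hbv
      · obtain ⟨k', u, hk', hu, rfl⟩ := hS
        have hu' : u ∈ U ⊓ C.orth (C.spanE m ![v]) := hSU (C.mem_spanE_self ![u] 0)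
        rcases hlink with e | ⟨-, ⟨-, e⟩ | ⟨e, -⟩⟩ | ⟨e, -⟩
        · simp only at e
          obtain rfl : k = k' := by omega
          obtain ⟨s, hs⟩ := exists_sqrt C.two (C.f u (k - 1))
          have hN0 : (C.N ^ m) (C.N v) = 0 := by rw [← Module.End.mul_apply, ← pow_succ]; exact hh v hv
          have hNx : (C.N ^ m) (u + s • C.N v) = (1 : F) • (C.N ^ m) u := by
            rw [map_add, map_smul, hN0, smul_zero, add_zero, one_smul]
          refine hno ⟨u + s • C.N v, add_mem hu'.1 (U.smul_mem _ (hU.inv v hv)), ?_, Or.inr ⟨v, hv, ?_, ?_⟩, ?_⟩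
          · rw [T, hNx, one_smul, map_add, map_smul, show C.B ((C.N ^ m) u) u = 1 from hTtop hu,
              C.symm ((C.N ^ m) u) (C.N v),
              C.mem_orth.1 (C.mem_Npow hrest hu' m).2 _ ((C.span_piece hfam).inv v hvS)]
            simp
          · rw [T, hNx, one_smul]; exact (C.T_cross (C.span_piece hfam) hh hvS hu').2
          · rw [hv1]; exact one_ne_zero
          · rw [f_add, f_smul, f_N, show k - 1 + 1 = k by omega, fk, map_smul, C.symm ((C.Z ^ k) u) (C.N v),
              C.mem_orth.1 (C.mem_Zpow hrest hu' k).2 _ ((C.span_piece hfam).inv v hvS), hs]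
            simp [C.add_self]
        · simp only at e
          obtain ⟨t, ht⟩ := exists_sqrt C.two (C.f v (k - 1))
          refine lower (t • u) (Submodule.smul_mem _ t hu') ?_ ?_
          · rw [map_smul, C.Npow_zero hu.1 (by omega), smul_zero]
          · rw [f_smul, hu.2, if_pos (by omega), mul_one, ht]
        · simp [hbv] at e
        · simp at e
      · obtain ⟨m', p, q, hk', hdW, rfl⟩ := hS
        rcases hlink with e | ⟨-, ⟨e, -⟩ | ⟨-, e⟩⟩ | ⟨e, -⟩
        · simp only at e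
          exact hbv (hkinds b hb e)
        · exact hbv e
        · simp only at e
          obtain rfl : m' = 2 * k := by omega
          obtain ⟨hp0, hq0, fp, fq, hpq⟩ := hdW
          have hp := hSU (C.mem_spanE_self ![p, q] 0)
          have hq := hSU (C.mem_spanE_self ![p, q] 1)
          cases hbb : b.bit
          · refine lower (p + C.f v (k - 1) • q) (add_mem hp (Submodule.smul_mem _ _ hq)) ?_ ?_
            · rw [map_add, map_smul, hp0, hq0, smul_zero, add_zero]
            · rw [f_add, f_smul, fp, fq, if_neg (by simp [hbb]), if_neg (by simp [hbb]), map_smul, ← E_even, hpq,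
                if_pos (by omega)]
              simp
          · obtain ⟨t, ht⟩ := exists_sqrt C.two (C.f v (k - 1))
            refine lower (t • p) (Submodule.smul_mem _ _ hp) ?_ ?_
            · rw [map_smul, hp0, smul_zero]
            · rw [f_smul, fp, if_pos ⟨by omega, hbb⟩, mul_one, ht]
        · simp at e

end Ctx

end Cfsg.Agent.SympTwo
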