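import Cfsg.Agent.SympTwo.Unip
import Cfsg.Agent.SympTwo.Blocks

/-!
# Invariant nondegenerate pieces, blocks and the isometries between them
-/

set_option autoImplicit false

namespace Cfsg.Agent.SympTwo

open Module Finset

universe u v w

variable {F : Type u} [Field F] {V : Type v} [AddCommGroup V] [Module F V]
variable {V' : Type w} [AddCommGroup V'] [Module F V']

namespace Ctx

variable (C : Ctx F V)

/-- An invariant nondegenerate subspace. -/
structure Piece (U : Submodule F V) : Prop where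
  inv : ∀ x ∈ U, C.N x ∈ U
  nd : ∀ x ∈ U, (∀ y ∈ U, C.B x y = 0) → x = 0

/-- The orthogonal space. -/
noncomputable def orth (S : Submodule F V) : Submodule F V := C.B.orthogonal S

theorem mem_orth {S : Submodule F V} {x : V} : x ∈ C.orth S ↔ ∀ s ∈ S, C.B s x = 0 := Iff.rfl

theorem N_adj (x y : V) : C.B (C.N x) y = C.B x (C.W (C.N y)) := by
  rw [N_apply, N_apply, map_add, LinearMap.add_apply, C.adjφ, map_add C.W, C.W_φ, map_add, add_comm]

theorem piece_top : C.Piece ⊤ :=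
  ⟨fun _ _ => trivial, fun x _ h => C.sep x fun y => h y trivial⟩

theorem mem_Npow {U : Submodule F V} (hU : C.Piece U) {x : V} (hx : x ∈ U) (k : ℕ) : (C.N ^ k) x ∈ U := by
  induction k with
  | zero => exact hx
  | succ k ih => rw [pow_succ', Module.End.mul_apply]; exact hU.inv _ ih

variable [FiniteDimensional F V]

theorem mem_W {U : Submodule F V} (hU : C.Piece U) {x : V} (hx : x ∈ U) : C.W x ∈ U := by
  have hφ : ∀ y ∈ U, C.φ y ∈ U := fun y hy => by
    have : C.φ y = C.N y + y := by rw [C.N_apply, add_assoc, C.vadd_self, add_zero]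
    rw [this]; exact add_mem (hU.inv y hy) hy
  have hinj : Function.Injective (C.φ.restrict hφ) := fun a b h =>
    Subtype.ext (Function.LeftInverse.injective C.W_φ (congrArg Subtype.val h))
  obtain ⟨y, hy⟩ := LinearMap.injective_iff_surjective.1 hinj ⟨x, hx⟩
  rw [← show C.φ y.1 = x from congrArg Subtype.val hy, C.W_φ]
  exact y.2

theorem mem_Zpow {U : Submodule F V} (hU : C.Piece U) {x : V} (hx : x ∈ U) (k : ℕ) : (C.Z ^ k) x ∈ U := by
  induction k with
  | zero => exact hx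
  | succ k ih =>
    rw [pow_succ', Module.End.mul_apply, Z_apply,
      show C.φ ((C.Z ^ k) x) = C.N ((C.Z ^ k) x) + (C.Z ^ k) x by rw [C.N_apply, add_assoc, C.vadd_self, add_zero]]
    exact add_mem (add_mem (hU.inv _ ih) ih) (C.mem_W hU ih)

theorem mem_E {U : Submodule F V} (hU : C.Piece U) {x : V} (hx : x ∈ U) (i : ℕ) : C.E i x ∈ U := by
  rw [E, Module.End.mul_apply]
  exact C.mem_Zpow hU (C.mem_Npow hU hx _) _

theorem mem_comb {U : Submodule F V} (hU : C.Piece U) {x : V} (hx : x ∈ U) (L : ℕ) (p : ℕ → F) :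
    C.comb L p x ∈ U :=
  sum_mem fun _ _ => U.smul_mem _ (C.mem_Zpow hU hx _)

theorem piece_inf_orth {U S : Submodule F V} (hU : C.Piece U) (hS : C.Piece S) (hSU : S ≤ U)
    (hrep : ∀ x, ∃ s ∈ S, ∀ t ∈ S, C.B t (x - s) = 0) :
    C.Piece (U ⊓ C.orth S) ∧ S ⊔ (U ⊓ C.orth S) = U := by
  have hsum : S ⊔ (U ⊓ C.orth S) = U := by
    refine le_antisymm (sup_le hSU inf_le_left) fun x hx => ?_
    obtain ⟨s, hs, h⟩ := hrep x
    refine Submodule.mem_sup.2 ⟨s, hs, x - s, ⟨sub_mem hx (hSU hs), C.mem_orth.2 h⟩, by abel⟩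
  refine ⟨⟨fun x hx => ⟨hU.inv _ hx.1, C.mem_orth.2 fun t ht => ?_⟩, fun x hx h => ?_⟩, hsum⟩
  · rw [C.symm, C.N_adj, C.symm]
    exact C.mem_orth.1 hx.2 _ (C.mem_W hS (hS.inv t ht))
  · refine hU.nd x hx.1 fun y hy => ?_
    rw [← hsum] at hy
    obtain ⟨s, hs, r, hr, rfl⟩ := Submodule.mem_sup.1 hy
    rw [map_add, h r hr, add_zero, C.symm, C.mem_orth.1 hx.2 s hs]

/-! ## Families of generators -/

/-- Generators of height `m` whose top pairing is nondegenerate. -/
structure Fam {r : ℕ} (m : ℕ) (x : Fin r → V) : Prop where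
  height : ∀ a, (C.N ^ (m + 1)) (x a) = 0
  top : ∀ c : Fin r → F, (∀ b, ∑ a, c a * C.B ((C.N ^ m) (x a)) (x b) = 0) → c = 0

/-- The translates of the generators. -/
noncomputable def fvec {r : ℕ} (m : ℕ) (x : Fin r → V) (p : Fin r × Fin (m + 1)) : V := C.E p.2 (x p.1)

/-- The subspace they span. -/
noncomputable def spanE {r : ℕ} (m : ℕ) (x : Fin r → V) : Submodule F V := Submodule.span F (Set.range (C.fvec m x))

omit [FiniteDimensional F V] in
theorem mem_spanE_self {r : ℕ} {m : ℕ} (x : Fin r → V) (a : Fin r) : x a ∈ C.spanE m x :=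
  Submodule.subset_span ⟨(a, ⟨0, m.succ_pos⟩), by simp [fvec, E]⟩

omit [FiniteDimensional F V] in
theorem E_mem_span {r m : ℕ} {x : Fin r → V} (hx : C.Fam m x) (a : Fin r) (i : ℕ) : C.E i (x a) ∈ C.spanE m x := by
  by_cases h : i ≤ m
  · exact Submodule.subset_span ⟨(a, ⟨i, Nat.lt_succ_of_le h⟩), rfl⟩
  · rw [C.E_zero (hx.height a) (by omega)]; exact zero_mem _

omit [FiniteDimensional F V] in
theorem N_E (i : ℕ) (v : V) :
    C.N (C.E i v) = if i % 2 = 0 then C.E (i + 1) v else C.E (i + 1) v + C.E (i + 2) v := by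
  rcases Nat.even_or_odd' i with ⟨j, rfl | rfl⟩
  · rw [if_pos (by omega), E_even, E_odd, C.N_Zpow]
  · rw [if_neg (by omega), E_odd, C.N_Zpow, C.NN, show 2 * j + 1 + 1 = 2 * (j + 1) by omega,
      show 2 * j + 1 + 2 = 2 * (j + 1) + 1 by omega, E_even, E_odd, map_add, pow_succ, Module.End.mul_apply,
      Module.End.mul_apply]

omit [FiniteDimensional F V] in
theorem indep {r m : ℕ} {x : Fin r → V} (hx : C.Fam m x) {c : Fin r × Fin (m + 1) → F}
    (h : ∀ k b, C.B ((C.N ^ k) (∑ p, c p • C.fvec m x p)) (x b) = 0) : c = 0 := by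
  classical
  suffices key : ∀ i : ℕ, ∀ p : Fin r × Fin (m + 1), p.2.val = i → c p = 0 from funext fun p => key _ p rfl
  intro i
  induction i using Nat.strongRecOn with
  | _ i ih =>
    intro p hp
    have him : i ≤ m := by have := p.2.isLt; omega
    have := hx.top (fun a => c (a, ⟨i, by omega⟩)) fun b => by
      rw [← h (m - i) b, map_sum, map_sum, LinearMap.sum_apply, Fintype.sum_prod_type]
      refine sum_congr rfl fun a _ => ?_
      rw [sum_eq_single (⟨i, by omega⟩ : Fin (m + 1))]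
      · simp only [fvec, map_smul, LinearMap.smul_apply, smul_eq_mul]
        rw [C.Npow_E (hx.height a) (show m - i + i = m by omega)]
      · intro l _ hl
        rcases Nat.lt_trichotomy l.val i with hlt | heq | hgt
        · rw [ih _ hlt (a, l) rfl, zero_smul, map_zero, map_zero, LinearMap.zero_apply]
        · exact absurd (Fin.ext heq) hl
        · simp only [fvec, map_smul, LinearMap.smul_apply, smul_eq_mul]
          rw [C.Npow_E_zero (hx.height a) (by omega), map_zero, LinearMap.zero_apply, mul_zero]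
      · exact fun h' => absurd (mem_univ _) h'
    have h' : c (p.1, ⟨i, by omega⟩) = 0 := congrFun this p.1
    rw [show p = (p.1, ⟨i, by omega⟩) from Prod.ext rfl (Fin.ext hp)]
    exact h'

theorem span_piece {r m : ℕ} {x : Fin r → V} (hx : C.Fam m x) : C.Piece (C.spanE m x) := by
  have hinv : ∀ y ∈ C.spanE m x, C.N y ∈ C.spanE m x := by
    intro y hy
    induction hy using Submodule.span_induction with
    | mem y hy =>
      obtain ⟨p, rfl⟩ := hy
      rw [fvec, N_E]
      split_ifs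
      · exact C.E_mem_span hx _ _
      · exact add_mem (C.E_mem_span hx _ _) (C.E_mem_span hx _ _)
    | zero => rw [map_zero]; exact zero_mem _
    | add a b _ _ ha hb => rw [map_add]; exact add_mem ha hb
    | smul s a _ ha => rw [map_smul]; exact Submodule.smul_mem _ s ha
  refine ⟨hinv, fun y hy h => ?_⟩
  obtain ⟨c, rfl⟩ := Submodule.mem_span_range_iff_exists_fun F |>.1 hy
  rw [C.indep hx (c := c) fun k b => ?_]
  · simp
  · have hW : ∀ k : ℕ, ∀ z ∈ C.spanE m x, ∀ y, (∀ t ∈ C.spanE m x, C.B y t = 0) → C.B ((C.N ^ k) y) z = 0 := by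
      intro k
      induction k with
      | zero => intro z hz y hy; exact hy z hz
      | succ k ih =>
        intro z hz y hy
        rw [pow_succ, Module.End.mul_apply]
        refine ih z hz _ fun t ht => ?_
        rw [C.N_adj]
        refine hy _ ?_
        have hφ : ∀ t ∈ C.spanE m x, C.φ t ∈ C.spanE m x := fun t ht => by
          have : C.φ t = C.N t + t := by rw [C.N_apply, add_assoc, C.vadd_self, add_zero]
          rw [this]; exact add_mem (hinv t ht) ht
        have hinj : Function.Injective (C.φ.restrict hφ) := fun a b h =>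
          Subtype.ext (Function.LeftInverse.injective C.W_φ (congrArg Subtype.val h))
        obtain ⟨z', hz'⟩ := LinearMap.injective_iff_surjective.1 hinj ⟨C.N t, hinv t ht⟩
        rw [← show C.φ z'.1 = C.N t from congrArg Subtype.val hz', C.W_φ]
        exact z'.2
    exact hW k _ (C.mem_spanE_self x b) _ h

theorem fvec_indep {r m : ℕ} {x : Fin r → V} (hx : C.Fam m x) : LinearIndependent F (C.fvec m x) :=
  Fintype.linearIndependent_iff.2 fun c hc p =>
    congrFun (C.indep hx (c := c) fun k b => by rw [hc, map_zero, map_zero, LinearMap.zero_apply]) p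

theorem finrank_span {r m : ℕ} {x : Fin r → V} (hx : C.Fam m x) : finrank F (C.spanE m x) = r * (m + 1) := by
  rw [spanE, finrank_span_eq_card (C.fvec_indep hx)]; simp

/-- Prescribed pairings with the translates. -/
theorem exists_pair {r m : ℕ} {x : Fin r → V} (hx : C.Fam m x) (val : Fin r × Fin (m + 1) → F) :
    ∃ y ∈ C.spanE m x, ∀ p, C.B (C.fvec m x p) y = val p := by
  let T : (Fin r × Fin (m + 1) → F) →ₗ[F] (Fin r × Fin (m + 1) → F) :=
    { toFun := fun c p => C.B (C.fvec m x p) (∑ l, c l • C.fvec m x l)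
      map_add' := fun a b => funext fun p => by simp [add_smul, sum_add_distrib]
      map_smul' := fun s a => funext fun p => by simp [mul_sum, mul_assoc] }
  have hinj : Function.Injective T := (injective_iff_map_eq_zero _).2 fun c hc => by
    have h0 : ∑ l, c l • C.fvec m x l = 0 := by
      refine (C.span_piece hx).nd _ (Submodule.mem_span_range_iff_exists_fun F |>.2 ⟨c, rfl⟩) fun y hy => ?_
      obtain ⟨d, rfl⟩ := Submodule.mem_span_range_iff_exists_fun F |>.1 hy
      rw [C.symm]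
      generalize hs : ∑ k, c k • C.fvec m x k = s
      have hc' : ∀ l, C.B (C.fvec m x l) s = 0 := fun l => hs ▸ congrFun hc l
      rw [map_sum, LinearMap.sum_apply]
      exact sum_eq_zero fun l _ => by rw [map_smul, LinearMap.smul_apply, hc', smul_zero]
    exact funext (Fintype.linearIndependent_iff.1 (C.fvec_indep hx) c h0)
  obtain ⟨c, hc⟩ := LinearMap.injective_iff_surjective.1 hinj val
  exact ⟨_, Submodule.mem_span_range_iff_exists_fun F |>.2 ⟨c, rfl⟩, congrFun hc⟩

theorem span_rep {r m : ℕ} {x : Fin r → V} (hx : C.Fam m x) (y : V) :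
    ∃ s ∈ C.spanE m x, ∀ t ∈ C.spanE m x, C.B t (y - s) = 0 := by
  obtain ⟨s, hs, h⟩ := C.exists_pair hx fun p => C.B (C.fvec m x p) y
  refine ⟨s, hs, fun t ht => ?_⟩
  obtain ⟨c, rfl⟩ := Submodule.mem_span_range_iff_exists_fun F |>.1 ht
  rw [map_sum, LinearMap.sum_apply]
  exact sum_eq_zero fun p _ => by rw [map_smul, LinearMap.smul_apply, map_sub, h, sub_self, smul_zero]

theorem span_le {r m : ℕ} {x : Fin r → V} {U : Submodule F V} (hU : C.Piece U) (hx : ∀ a, x a ∈ U) :
    C.spanE m x ≤ U :=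
  Submodule.span_le.2 (by rintro _ ⟨p, rfl⟩; exact C.mem_E hU (hx _) _)

theorem rest {r m : ℕ} {x : Fin r → V} {U : Submodule F V} (hU : C.Piece U) (hx : C.Fam m x) (hxU : ∀ a, x a ∈ U) :
    C.Piece (U ⊓ C.orth (C.spanE m x)) ∧ C.spanE m x ⊔ (U ⊓ C.orth (C.spanE m x)) = U :=
  C.piece_inf_orth hU (C.span_piece hx) (C.span_le hU hxU) (C.span_rep hx)

theorem finrank_rest {r m : ℕ} {x : Fin r → V} {U : Submodule F V} (hU : C.Piece U) (hx : C.Fam m x)
    (hxU : ∀ a, x a ∈ U) :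
    r * (m + 1) + finrank F ↥(U ⊓ C.orth (C.spanE m x)) = finrank F U := by
  have h := Submodule.finrank_sup_add_finrank_inf_eq (C.spanE m x) (U ⊓ C.orth (C.spanE m x))
  rw [(C.rest hU hx hxU).2] at h
  have h0 : C.spanE m x ⊓ (U ⊓ C.orth (C.spanE m x)) = ⊥ := (Submodule.eq_bot_iff _).2 fun y hy =>
    (C.span_piece hx).nd y hy.1 fun t ht => by rw [C.symm]; exact C.mem_orth.1 hy.2.2 t ht
  rw [h0, finrank_bot, C.finrank_span hx] at h
  omega

/-! ## Normal blocks -/

/-- A cyclic block in normal form. -/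
def VData (a₀ : F) (k : ℕ) (bit : Bool) (v : V) : Prop :=
  (C.N ^ (2 * k + 2)) v = 0 ∧ ∀ J, C.f v J = if J = k then 1 else if J + 1 = k ∧ bit = true then a₀ else 0

/-- A paired block in normal form. -/
def WData (a₀ : F) (m : ℕ) (bit : Bool) (v w : V) : Prop :=
  (C.N ^ (m + 1)) v = 0 ∧ (C.N ^ (m + 1)) w = 0 ∧
    (∀ J, C.f v J = if 2 * J + 2 = m ∧ bit = true then 1 else 0) ∧
    (∀ J, C.f w J = if 2 * J + 2 = m ∧ bit = true then a₀ else 0) ∧
    ∀ i, C.B (C.E i v) w = if i = m then 1 else 0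

omit [FiniteDimensional F V] in
theorem E_self (i : ℕ) (v : V) : C.B (C.E i v) v = if i % 2 = 0 then 0 else C.f v (i / 2) := by
  rcases Nat.even_or_odd' i with ⟨j, rfl | rfl⟩
  · rw [if_pos (by omega), E_even, C.Zpow_alt]
  · rw [if_neg (by omega), E_odd, f_eq_N, show (2 * j + 1) / 2 = j by omega]

omit [FiniteDimensional F V] in
theorem VData.fam {a₀ : F} {k : ℕ} {bit : Bool} {v : V} (h : C.VData a₀ k bit v) :
    C.Fam (2 * k + 1) ![v] := by
  refine ⟨fun a => by rw [Fin.fin_one_eq_zero a]; exact h.1, fun c hc => funext fun a => ?_⟩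
  have h1 := hc 0
  rw [Fin.sum_univ_one] at h1
  simp only [Matrix.cons_val_fin_one] at h1
  rw [← C.f_top h.1, h.2, if_pos rfl, mul_one] at h1
  rw [Fin.fin_one_eq_zero a]; exact h1

omit [FiniteDimensional F V] in
theorem WData.tops {a₀ : F} {m : ℕ} {bit : Bool} {v w : V} (h : C.WData a₀ m bit v w) :
    C.B ((C.N ^ m) v) v = 0 ∧ C.B ((C.N ^ m) w) w = 0 ∧ C.B ((C.N ^ m) v) w = 1 ∧ C.B ((C.N ^ m) w) v = 1 := by
  obtain ⟨hv, hw, fv, fw, hvw⟩ := h
  have e := hvw m
  rw [C.E_top hv, if_pos rfl] at e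
  refine ⟨?_, ?_, e, (C.top_symm hv).trans e⟩
  · rw [← C.E_top hv, C.E_self]
    split_ifs with hp
    · rfl
    · rw [fv, if_neg]; omega
  · rw [← C.E_top hw, C.E_self]
    split_ifs with hp
    · rfl
    · rw [fw, if_neg]; omega

omit [FiniteDimensional F V] in
theorem WData.fam {a₀ : F} {m : ℕ} {bit : Bool} {v w : V} (h : C.WData a₀ m bit v w) : C.Fam m ![v, w] := by
  obtain ⟨t1, t2, t3, t4⟩ := WData.tops C h
  refine ⟨fun a => by fin_cases a; exacts [h.1, h.2.1], fun c hc => funext fun a => ?_⟩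
  have h0 := hc 0
  have h1 := hc 1
  simp only [Fin.sum_univ_two, Matrix.cons_val_zero, Matrix.cons_val_one, t1, t2, t3, t4,
    mul_zero, mul_one, zero_add, add_zero] at h0 h1
  fin_cases a
  exacts [h1, h0]

/-- The subspaces realising a block. -/
def BlkData (a₀ : F) (a : Blk) (S : Submodule F V) : Prop :=
  if a.isV then ∃ (k : ℕ) (v : V), a.ht = 2 * k + 2 ∧ C.VData a₀ k a.bit v ∧ S = C.spanE (2 * k + 1) ![v]
  else ∃ (m : ℕ) (v w : V), a.ht = m + 1 ∧ C.WData a₀ m a.bit v w ∧ S = C.spanE m ![v, w]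

/-- An orthogonal decomposition in normal blocks. -/
def HasForm (a₀ : F) : List Blk → Submodule F V → Prop
  | [], U => U = ⊥
  | a :: R, U => ∃ S, C.BlkData a₀ a S ∧ S ≤ U ∧ HasForm a₀ R (U ⊓ C.orth S)

omit [FiniteDimensional F V] in
theorem BlkData.exists_fam {a₀ : F} {a : Blk} {S : Submodule F V} (h : C.BlkData a₀ a S) :
    ∃ (r m : ℕ) (x : Fin r → V), C.Fam m x ∧ S = C.spanE m x ∧ a.ht = m + 1 ∧ r * (m + 1) = 2 * a.wt ∧ 1 ≤ r := by
  rw [BlkData] at h
  split_ifs at h with hv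
  · obtain ⟨k, v, hk, hd, rfl⟩ := h
    refine ⟨1, _, _, VData.fam C hd, rfl, hk, ?_, le_rfl⟩
    rw [Blk.wt, if_pos hv, hk]; omega
  · obtain ⟨m, v, w, hm, hd, rfl⟩ := h
    refine ⟨2, _, _, WData.fam C hd, rfl, hm, ?_, by omega⟩
    rw [Blk.wt, if_neg hv, hm]

theorem finrank_eq {a₀ : F} : ∀ {L : List Blk} {U : Submodule F V}, C.Piece U → C.HasForm a₀ L U →
    finrank F U = 2 * wts L
  | [], U, _, h => by rw [h, finrank_bot]; rfl
  | a :: R, U, hU, ⟨S, hS, hSU, hR⟩ => by
    obtain ⟨r, m, x, hx, rfl, -, hw, -⟩ := BlkData.exists_fam C hS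
    have hxU : ∀ i, x i ∈ U := fun i => hSU (C.mem_spanE_self x i)
    have h1 := C.finrank_rest hU hx hxU
    rw [finrank_eq (C.rest hU hx hxU).1 hR, hw] at h1
    rw [wts, List.map_cons, List.sum_cons, ← wts]
    omega

end Ctx

/-! ## Isometries -/

/-- An intertwining isometry between two pieces. -/
def IsoOn (C : Ctx F V) (D : Ctx F V') (U : Submodule F V) (U' : Submodule F V') : Prop :=
  ∃ θ : V →ₗ[F] V', (∀ x ∈ U, θ x ∈ U') ∧ (∀ x ∈ U, θ (C.N x) = D.N (θ x)) ∧
    (∀ x ∈ U, ∀ y ∈ U, D.B (θ x) (θ y) = C.B x y) ∧ U' ≤ U.map θ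

variable [FiniteDimensional F V] [FiniteDimensional F V'] (C : Ctx F V) (D : Ctx F V')

omit [FiniteDimensional F V] [FiniteDimensional F V'] in
theorem gram {r : ℕ} {x : Fin r → V} {x' : Fin r → V'}
    (h : ∀ a b i, C.B (C.E i (x a)) (x b) = D.B (D.E i (x' a)) (x' b)) (a b : Fin r) (i j : ℕ) :
    C.B (C.E i (x a)) (C.E j (x b)) = D.B (D.E i (x' a)) (D.E j (x' b)) := by
  rcases Nat.even_or_odd' i with ⟨s, rfl | rfl⟩ <;> rcases Nat.even_or_odd' j with ⟨t, rfl | rfl⟩
  · have := h a b (2 * (s + t))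
    rw [C.E_even, D.E_even] at this
    rw [C.E_even, C.E_even, D.E_even, D.E_even, C.Zpow_merge, D.Zpow_merge, this]
  · have := h b a (2 * (s + t) + 1)
    rw [C.E_odd, D.E_odd] at this
    rw [C.E_even, C.E_odd, D.E_even, D.E_odd, C.Zpow_merge, D.Zpow_merge, C.Zpow_adj, C.symm, D.Zpow_adj,
      D.symm (x' a)]
    exact this
  · have := h a b (2 * (s + t) + 1)
    rw [C.E_odd, D.E_odd] at this
    rw [C.E_even, C.E_odd, D.E_even, D.E_odd, C.Zpow_merge, D.Zpow_merge, this]
  · have := h a b (2 * (s + t + 1))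
    rw [C.E_even, D.E_even] at this
    rw [C.E_odd, C.E_odd, D.E_odd, D.E_odd, C.Zpow_merge, D.Zpow_merge, ← C.N_Zpow, ← D.N_Zpow, C.NN_adj,
      D.NN_adj, ← Module.End.mul_apply C.Z, ← Module.End.mul_apply D.Z, ← pow_succ', ← pow_succ']
    exact this

theorem isoOn_span {r m : ℕ} {x : Fin r → V} {x' : Fin r → V'} (hx : C.Fam m x) (hx' : D.Fam m x')
    (h : ∀ a b i, C.B (C.E i (x a)) (x b) = D.B (D.E i (x' a)) (x' b)) :
    IsoOn C D (C.spanE m x) (D.spanE m x') := by
  obtain ⟨θ, hθ⟩ := LinearMap.exists_extend ((Basis.span (C.fvec_indep hx)).constr F (D.fvec m x'))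
  have hb : ∀ p, θ (C.fvec m x p) = D.fvec m x' p := fun p => by
    have := LinearMap.congr_fun hθ (Basis.span (C.fvec_indep hx) p)
    rwa [Basis.constr_basis, LinearMap.comp_apply, Submodule.subtype_apply, Basis.span_apply] at this
  have hE : ∀ a i, θ (C.E i (x a)) = D.E i (x' a) := by
    intro a i
    rcases Nat.lt_or_ge i (m + 1) with hi | hi
    · exact hb (a, ⟨i, hi⟩)
    · rw [C.E_zero (hx.height a) hi, D.E_zero (hx'.height a) hi, map_zero]
  refine ⟨θ, fun y hy => ?_, fun y hy => ?_, fun y hy z hz => ?_, ?_⟩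
  · induction hy using Submodule.span_induction with
    | mem y hy => obtain ⟨p, rfl⟩ := hy; rw [hb]; exact Submodule.subset_span ⟨p, rfl⟩
    | zero => rw [map_zero]; exact zero_mem _
    | add a b _ _ ha hb => rw [map_add]; exact add_mem ha hb
    | smul s a _ ha => rw [map_smul]; exact Submodule.smul_mem _ s ha
  · induction hy using Submodule.span_induction with
    | mem y hy =>
      obtain ⟨p, rfl⟩ := hy
      rw [Ctx.fvec, C.N_E, hE, D.N_E]
      split_ifs <;> simp [hE]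
    | zero => simp
    | add a b _ _ ha hb => simp [ha, hb]
    | smul s a _ ha => simp [ha]
  · induction hy using Submodule.span_induction with
    | mem y hy =>
      obtain ⟨p, rfl⟩ := hy
      induction hz using Submodule.span_induction with
      | mem z hz =>
        obtain ⟨l, rfl⟩ := hz
        rw [hb, hb]; exact (gram C D h p.1 l.1 p.2 l.2).symm
      | zero => simp
      | add a b _ _ ha hb => simp [ha, hb]
      | smul s a _ ha => simp [ha]
    | zero => simp
    | add a b _ _ ha hb => simp [ha, hb]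
    | smul s a _ ha => simp [ha]
  · refine Submodule.span_le.2 ?_
    rintro _ ⟨p, rfl⟩
    exact ⟨_, Submodule.subset_span ⟨p, rfl⟩, hb p⟩

theorem isoOn_combine {r r' m m' : ℕ} {x : Fin r → V} {x' : Fin r' → V'} {U : Submodule F V} {U' : Submodule F V'}
    (hU : C.Piece U) (hU' : D.Piece U') (hx : C.Fam m x) (hx' : D.Fam m' x') (hxU : ∀ a, x a ∈ U)
    (hxU' : ∀ a, x' a ∈ U') (h1 : IsoOn C D (C.spanE m x) (D.spanE m' x'))
    (h2 : IsoOn C D (U ⊓ C.orth (C.spanE m x)) (U' ⊓ D.orth (D.spanE m' x'))) : IsoOn C D U U' := by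
  set S := C.spanE m x
  set R := U ⊓ C.orth S
  obtain ⟨θ1, a1, b1, c1, d1⟩ := h1
  obtain ⟨θ2, a2, b2, c2, d2⟩ := h2
  have hcompl : IsCompl S (C.orth S) := by
    refine ⟨Submodule.disjoint_def.2 fun y hy hy' => (C.span_piece hx).nd y hy fun t ht => by
      rw [C.symm]; exact C.mem_orth.1 hy' t ht, codisjoint_iff.2 (eq_top_iff.2 fun y _ => ?_)⟩
    obtain ⟨s, hs, h⟩ := C.span_rep hx y
    exact Submodule.mem_sup.2 ⟨s, hs, y - s, C.mem_orth.2 h, by abel⟩
  obtain ⟨P, hP, hP'⟩ : ∃ P : Module.End F V, (∀ s ∈ S, P s = s) ∧ ∀ t ∈ C.orth S, P t = 0 := by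
    refine ⟨S.subtype ∘ₗ S.projectionOnto (C.orth S) hcompl, fun s hs => ?_, fun t ht => ?_⟩
    · rw [LinearMap.comp_apply, show s = ((⟨s, hs⟩ : S) : V) from rfl, Submodule.projectionOnto_apply_left]; rfl
    · rw [LinearMap.comp_apply, show t = ((⟨t, ht⟩ : C.orth S) : V) from rfl, Submodule.projectionOnto_apply_right,
        map_zero]
  set θ := θ1 ∘ₗ P + θ2 ∘ₗ ((1 : Module.End F V) - P)
  have key : ∀ s ∈ S, ∀ t ∈ R, θ (s + t) = θ1 s + θ2 t := fun s hs t ht => by
    simp [θ, hP s hs, hP' t ht.2]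
  have hdec : ∀ y ∈ U, ∃ s ∈ S, ∃ t ∈ R, y = s + t := fun y hy => by
    rw [← (C.rest hU hx hxU).2] at hy
    obtain ⟨s, hs, t, ht, rfl⟩ := Submodule.mem_sup.1 hy
    exact ⟨s, hs, t, ht, rfl⟩
  refine ⟨θ, fun y hy => ?_, fun y hy => ?_, fun y hy z hz => ?_, fun y hy => ?_⟩
  · obtain ⟨s, hs, t, ht, rfl⟩ := hdec y hy
    rw [key s hs t ht]
    exact add_mem (D.span_le hU' hxU' (a1 s hs)) (a2 t ht).1
  · obtain ⟨s, hs, t, ht, rfl⟩ := hdec y hy
    rw [map_add, key _ ((C.span_piece hx).inv s hs) _ ((C.rest hU hx hxU).1.inv t ht), key s hs t ht, map_add,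
      b1 s hs, b2 t ht]
  · obtain ⟨s, hs, t, ht, rfl⟩ := hdec y hy
    obtain ⟨s', hs', t', ht', rfl⟩ := hdec z hz
    rw [key s hs t ht, key s' hs' t' ht']
    simp only [map_add, LinearMap.add_apply]
    rw [c1 s hs s' hs', c2 t ht t' ht', D.mem_orth.1 (a2 t' ht').2 _ (a1 s hs),
      D.symm (θ2 t), D.mem_orth.1 (a2 t ht).2 _ (a1 s' hs'), C.symm t s', C.mem_orth.1 ht'.2 s hs,
      C.mem_orth.1 ht.2 s' hs']
  · rw [← (D.rest hU' hx' hxU').2] at hy
    obtain ⟨s, hs, t, ht, rfl⟩ := Submodule.mem_sup.1 hy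
    obtain ⟨s0, hs0, rfl⟩ := d1 hs
    obtain ⟨t0, ht0, rfl⟩ := d2 ht
    exact ⟨s0 + t0, add_mem (C.span_le hU hxU hs0) ht0.1, key s0 hs0 t0 ht0⟩

omit [FiniteDimensional F V] [FiniteDimensional F V'] in
theorem gram_V {a₀ : F} {k : ℕ} {bit : Bool} {v : V} {v' : V'} (h : C.VData a₀ k bit v)
    (h' : D.VData a₀ k bit v') (a b : Fin 1) (i : ℕ) :
    C.B (C.E i (![v] a)) (![v] b) = D.B (D.E i (![v'] a)) (![v'] b) := by
  simp only [Matrix.cons_val_fin_one, C.E_self, D.E_self, h.2, h'.2]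

omit [FiniteDimensional F V] [FiniteDimensional F V'] in
theorem gram_W {a₀ : F} {m : ℕ} {bit : Bool} {v w : V} {v' w' : V'} (h : C.WData a₀ m bit v w)
    (h' : D.WData a₀ m bit v' w') (a b : Fin 2) (i : ℕ) :
    C.B (C.E i (![v, w] a)) (![v, w] b) = D.B (D.E i (![v', w'] a)) (![v', w'] b) := by
  obtain ⟨-, -, fv, fw, hvw⟩ := h
  obtain ⟨-, -, fv', fw', hvw'⟩ := h'
  fin_cases a <;> fin_cases b <;> simp only [Fin.zero_eta, Fin.mk_one, Matrix.cons_val_zero, Matrix.cons_val_one]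
  · simp only [C.E_self, D.E_self, fv, fv']
  · rw [hvw, hvw']
  · rcases Nat.even_or_odd' i with ⟨s, rfl | rfl⟩
    · rw [C.E_even, D.E_even, C.Zpow_adj, C.symm, D.Zpow_adj, D.symm w', ← C.E_even, ← D.E_even, hvw, hvw']
    · have e1 := C.N_flip s v w
      have e2 := D.N_flip s v' w'
      rw [← C.E_odd s v, ← C.E_odd s w, ← C.E_even (s + 1), hvw, hvw] at e1
      rw [← D.E_odd s v', ← D.E_odd s w', ← D.E_even (s + 1), hvw', hvw'] at e2
      exact add_left_cancel (e1.trans e2.symm)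
  · simp only [C.E_self, D.E_self, fw, fw']

/-- Two pieces with the same list are isometric. -/
theorem isoOn_of_form {a₀ : F} : ∀ {L : List Blk} {U : Submodule F V} {U' : Submodule F V'}, C.Piece U → D.Piece U' →
    C.HasForm a₀ L U → D.HasForm a₀ L U' → IsoOn C D U U'
  | [], U, U', _, _, h, h' => by
    obtain rfl : U = ⊥ := h
    obtain rfl : U' = ⊥ := h'
    exact ⟨0, by simp, by simp, by
      intro x hx y _; rw [(Submodule.mem_bot F).1 hx]; simp, bot_le⟩
  | a :: R, U, U', hU, hU', ⟨S, hS, hSU, hR⟩, ⟨S', hS', hSU', hR'⟩ => by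
    rw [Ctx.BlkData] at hS hS'
    split_ifs at hS hS' with hv
    · obtain ⟨k, v, hk, hd, rfl⟩ := hS
      obtain ⟨k', v', hk', hd', rfl⟩ := hS'
      obtain rfl : k = k' := by omega
      have hf := Ctx.VData.fam C hd
      have hf' := Ctx.VData.fam D hd'
      have hm : ∀ i, ![v] i ∈ U := fun i => hSU (C.mem_spanE_self _ i)
      have hm' : ∀ i, ![v'] i ∈ U' := fun i => hSU' (D.mem_spanE_self _ i)
      exact isoOn_combine C D hU hU' hf hf' hm hm' (isoOn_span C D hf hf' (gram_V C D hd hd'))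
        (isoOn_of_form (C.rest hU hf hm).1 (D.rest hU' hf' hm').1 hR hR')
    · obtain ⟨m, v, w, hk, hd, rfl⟩ := hS
      obtain ⟨m', v', w', hk', hd', rfl⟩ := hS'
      obtain rfl : m = m' := by omega
      have hf := Ctx.WData.fam C hd
      have hf' := Ctx.WData.fam D hd'
      have hm : ∀ i, ![v, w] i ∈ U := fun i => hSU (C.mem_spanE_self _ i)
      have hm' : ∀ i, ![v', w'] i ∈ U' := fun i => hSU' (D.mem_spanE_self _ i)
      exact isoOn_combine C D hU hU' hf hf' hm hm' (isoOn_span C D hf hf' (gram_W C D hd hd'))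
        (isoOn_of_form (C.rest hU hf hm).1 (D.rest hU' hf' hm').1 hR hR')

end Cfsg.Agent.SympTwo
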