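import Mathlib

/-!
# Unipotent isometries of alternating forms in characteristic two

With `z = φ + φ⁻¹` the form is determined on a cyclic submodule by the values `f x j = B (φ (z ^ j x)) x`.
-/

set_option autoImplicit false

namespace Cfsg.Agent.SympTwo

open Module Finset

universe u v

variable {F : Type u} [Field F] {V : Type v} [AddCommGroup V] [Module F V]

/-- A unipotent isometry of a nondegenerate alternating form in characteristic two. -/
structure Ctx (F : Type u) [Field F] (V : Type v) [AddCommGroup V] [Module F V] where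
  B : LinearMap.BilinForm F V
  φ : Module.End F V
  W : Module.End F V
  two : (2 : F) = 0
  alt : ∀ x, B x x = 0
  sep : ∀ x, (∀ y, B x y = 0) → x = 0
  pres : ∀ x y, B (φ x) (φ y) = B x y
  φW : φ * W = 1
  Wφ : W * φ = 1
  nil : ∃ d, (φ - 1) ^ d = 0

namespace Ctx

variable (C : Ctx F V)

/-- `φ - 1`. -/
def N : Module.End F V := C.φ - 1

/-- `φ + φ⁻¹`. -/
def Z : Module.End F V := C.φ + C.W

/-- The values of the quadratic data. -/
def f (x : V) (j : ℕ) : F := C.B (C.φ ((C.Z ^ j) x)) x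

/-- The basis `z ^ J (φ - 1) ^ e`, indexed by `2 J + e`. -/
noncomputable def E (i : ℕ) : Module.End F V := C.Z ^ (i / 2) * C.N ^ (i % 2)

include C in
theorem add_self (a : F) : a + a = 0 := by rw [← two_mul, C.two, zero_mul]

include C in
theorem neg_eq (a : F) : -a = a := (eq_neg_of_add_eq_zero_left (C.add_self a)).symm

include C in
theorem sub_eq (a b : F) : a - b = a + b := by rw [sub_eq_add_neg, C.neg_eq]

include C in
theorem vadd_self (x : V) : x + x = 0 := by rw [← two_smul F, C.two, zero_smul]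

include C in
theorem vneg_eq (x : V) : -x = x := (eq_neg_of_add_eq_zero_left (C.vadd_self x)).symm

theorem symm (x y : V) : C.B x y = C.B y x := by
  have h := C.alt (x + y)
  simp only [map_add, LinearMap.add_apply, C.alt, zero_add, add_zero] at h
  rw [← C.neg_eq (C.B x y), eq_comm, eq_neg_iff_add_eq_zero, add_comm, ← h, add_comm]

theorem φ_W (x : V) : C.φ (C.W x) = x := LinearMap.congr_fun C.φW x

theorem W_φ (x : V) : C.W (C.φ x) = x := LinearMap.congr_fun C.Wφ x

theorem adjφ (x y : V) : C.B (C.φ x) y = C.B x (C.W y) := by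
  conv_lhs => rw [← C.φ_W y]
  exact C.pres _ _

theorem N_apply (x : V) : C.N x = C.φ x + x := by
  rw [N, LinearMap.sub_apply, Module.End.one_apply, sub_eq_add_neg, C.vneg_eq]

theorem Z_apply (x : V) : C.Z x = C.φ x + C.W x := rfl

theorem commute_Wφ : Commute C.W C.φ := C.Wφ.trans C.φW.symm

theorem commute_ZN : Commute C.Z C.N :=
  (((Commute.refl C.φ).sub_right (Commute.one_right _)).add_left
    (C.commute_Wφ.sub_right (Commute.one_right _)))

theorem commute_WN : Commute C.W C.N := C.commute_Wφ.sub_right (Commute.one_right _)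

theorem commute_φZ : Commute C.φ C.Z := (Commute.refl C.φ).add_right C.commute_Wφ.symm

theorem Z_adj (x y : V) : C.B (C.Z x) y = C.B x (C.Z y) := by
  rw [Z_apply, Z_apply, map_add, LinearMap.add_apply, map_add, C.adjφ, add_comm, C.symm (C.W x), ← C.adjφ,
    C.symm (C.φ y)]

theorem Zpow_adj (j : ℕ) : ∀ x y, C.B ((C.Z ^ j) x) y = C.B x ((C.Z ^ j) y) := by
  induction j with
  | zero => intro x y; rfl
  | succ j ih =>
    intro x y
    rw [pow_succ, Module.End.mul_apply, ih, C.Z_adj, ← Module.End.mul_apply, ← pow_succ', pow_succ]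

theorem Zpow_merge (i j : ℕ) (x y : V) : C.B ((C.Z ^ i) x) ((C.Z ^ j) y) = C.B ((C.Z ^ (i + j)) x) y := by
  rw [← C.Zpow_adj, ← Module.End.mul_apply, ← pow_add, add_comm]

theorem Zpow_alt (j : ℕ) (x : V) : C.B ((C.Z ^ j) x) x = 0 := by
  rcases Nat.even_or_odd' j with ⟨i, rfl | rfl⟩
  · rw [two_mul, ← C.Zpow_merge, C.alt]
  · rw [show 2 * i + 1 = (i + 1) + i by omega, ← C.Zpow_merge, pow_succ', Module.End.mul_apply, Z_apply, map_add,
      LinearMap.add_apply, C.symm (C.W _), ← C.adjφ]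
    exact C.add_self _

theorem φ_Zpow (j : ℕ) (x : V) : C.φ ((C.Z ^ j) x) = (C.Z ^ j) (C.φ x) :=
  LinearMap.congr_fun (C.commute_φZ.pow_right j).eq x

theorem N_Zpow (j : ℕ) (x : V) : C.N ((C.Z ^ j) x) = (C.Z ^ j) (C.N x) :=
  LinearMap.congr_fun (C.commute_ZN.pow_left j).eq.symm x

theorem f_eq_N (x : V) (j : ℕ) : C.f x j = C.B ((C.Z ^ j) (C.N x)) x := by
  rw [N_apply, map_add, map_add, LinearMap.add_apply, C.Zpow_alt, add_zero, f, C.φ_Zpow]

theorem cross (j : ℕ) (x y : V) :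
    C.B (C.φ ((C.Z ^ j) x)) y + C.B (C.φ ((C.Z ^ j) y)) x = C.B ((C.Z ^ (j + 1)) x) y := by
  rw [C.φ_Zpow j y, C.Zpow_adj j (C.φ y) x, C.adjφ y, C.symm y, pow_succ', Module.End.mul_apply, Z_apply, map_add,
    LinearMap.add_apply]

theorem f_add (x y : V) (j : ℕ) : C.f (x + y) j = C.f x j + C.f y j + C.B ((C.Z ^ (j + 1)) x) y := by
  simp only [f, map_add, LinearMap.add_apply, ← C.cross]
  ring

theorem f_smul (c : F) (x : V) (j : ℕ) : C.f (c • x) j = c ^ 2 * C.f x j := by
  simp only [f, map_smul, LinearMap.smul_apply, smul_eq_mul]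
  ring

theorem f_zero (j : ℕ) : C.f 0 j = 0 := by simp [f]

theorem f_Zpow (i : ℕ) (x : V) (j : ℕ) : C.f ((C.Z ^ i) x) j = C.f x (j + 2 * i) := by
  rw [f, f, ← Module.End.mul_apply (C.Z ^ j), ← pow_add, C.φ_Zpow, C.Zpow_merge, ← C.φ_Zpow,
    show j + i + i = j + 2 * i by ring]

theorem f_φ (x : V) (j : ℕ) : C.f (C.φ x) j = C.f x j := by
  rw [f, ← C.φ_Zpow j x, C.pres]; rfl

theorem NN (x : V) : C.N (C.N x) = C.Z x + C.Z (C.N x) := by
  have e : C.φ (C.φ x) = C.Z (C.φ x) + x := by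
    rw [Z_apply, C.W_φ, add_assoc, C.vadd_self, add_zero]
  rw [C.N_apply x, N_apply, map_add, map_add, e, C.Z_apply x]
  have h1 := C.vadd_self (C.φ x)
  have h2 := C.vadd_self (C.W x)
  calc C.Z (C.φ x) + x + C.φ x + (C.φ x + x) = C.Z (C.φ x) + (x + x) + (C.φ x + C.φ x) := by abel
    _ = (C.φ x + C.φ x) + (C.W x + C.W x) + C.Z (C.φ x) := by rw [h1, h2, C.vadd_self x]; abel
    _ = C.φ x + C.W x + (C.Z (C.φ x) + (C.φ x + C.W x)) := by abel

theorem NN_adj (x y : V) : C.B (C.N x) (C.N y) = C.B (C.Z x) y := by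
  simp only [N_apply, Z_apply, map_add, LinearMap.add_apply, C.pres]
  rw [C.symm (C.W x) y, ← C.adjφ y x, C.symm (C.φ y) x]
  calc C.B x y + C.B x (C.φ y) + (C.B (C.φ x) y + C.B x y)
      = (C.B x y + C.B x y) + (C.B (C.φ x) y + C.B x (C.φ y)) := by ring
    _ = _ := by rw [C.add_self, zero_add]

theorem N_flip (j : ℕ) (x y : V) :
    C.B ((C.Z ^ j) (C.N x)) y + C.B ((C.Z ^ j) (C.N y)) x = C.B ((C.Z ^ (j + 1)) x) y := by
  simp only [N_apply, map_add, LinearMap.add_apply, ← C.φ_Zpow]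
  rw [← C.cross, C.symm ((C.Z ^ j) y) x, ← C.Zpow_adj]
  calc C.B (C.φ ((C.Z ^ j) x)) y + C.B ((C.Z ^ j) x) y + (C.B (C.φ ((C.Z ^ j) y)) x + C.B ((C.Z ^ j) x) y)
      = C.B (C.φ ((C.Z ^ j) x)) y + C.B (C.φ ((C.Z ^ j) y)) x +
        (C.B ((C.Z ^ j) x) y + C.B ((C.Z ^ j) x) y) := by ring
    _ = _ := by rw [C.add_self, add_zero]

theorem f_N (x : V) (j : ℕ) : C.f (C.N x) j = C.f x (j + 1) := by
  rw [f_eq_N, C.NN, map_add, map_add, LinearMap.add_apply, ← Module.End.mul_apply, ← Module.End.mul_apply,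
    ← pow_succ, C.Zpow_alt, add_zero, C.Zpow_adj, C.f_eq_N, C.symm]

/-- Sums of twisted translates. -/
noncomputable def comb (L : ℕ) (p : ℕ → F) (w : V) : V := ∑ i ∈ range L, p i • (C.Z ^ i) w

theorem f_comb (L : ℕ) (p : ℕ → F) (w : V) (j : ℕ) :
    C.f (C.comb L p w) j = ∑ i ∈ range L, p i ^ 2 * C.f w (j + 2 * i) := by
  induction L with
  | zero => simp [comb, f_zero]
  | succ L ih =>
    rw [comb, sum_range_succ, sum_range_succ, f_add, ← comb, ih, f_smul, f_Zpow]
    simp only [comb, map_sum, map_smul, LinearMap.sum_apply, LinearMap.smul_apply, smul_eq_mul, ← Module.End.mul_apply,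
      ← pow_add, Zpow_merge, Zpow_alt, mul_zero, sum_const_zero, add_zero]

theorem f_add_comb (L : ℕ) (p : ℕ → F) (x w : V) (j : ℕ) :
    C.f (x + C.comb L p w) j = C.f x j + ∑ i ∈ range L, p i ^ 2 * C.f w (j + 2 * i) +
      ∑ i ∈ range L, p i * C.B ((C.Z ^ (j + 1 + i)) x) w := by
  rw [f_add, f_comb]
  congr 1
  simp only [comb, map_sum, map_smul, smul_eq_mul, Zpow_merge]

/-- The equations for changing the quadratic data are triangular. -/
theorem exists_solution {L : ℕ} (a b c t : ℕ → F) (hb : ∀ j, L ≤ j → b j = 0) (hc : ∀ j, L < j → c j = 0)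
    (hcL : c L ≠ 0) (p0 : F) (h0 : 1 ≤ L → a (L - 1) + p0 ^ 2 * b (L - 1) + p0 * c L = t (L - 1)) :
    ∃ p : ℕ → F, p 0 = p0 ∧ ∀ j < L,
      a j + ∑ i ∈ range L, p i ^ 2 * b (j + 2 * i) + ∑ i ∈ range L, p i * c (j + 1 + i) = t j := by
  classical
  set G : (ℕ → F) → ℕ → F := fun p j =>
    a j + ∑ i ∈ range L, p i ^ 2 * b (j + 2 * i) + ∑ i ∈ range L, p i * c (j + 1 + i) with hG
  suffices h : ∀ r, r + 1 ≤ L → ∃ p : ℕ → F, p 0 = p0 ∧ (∀ i, r < i → p i = 0) ∧
      ∀ j < L, L ≤ j + r + 1 → G p j = t j by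
    rcases Nat.eq_zero_or_pos L with h' | h'
    · exact ⟨fun _ => p0, rfl, fun j hj => by omega⟩
    obtain ⟨p, hp, -, h''⟩ := h (L - 1) (by omega)
    exact ⟨p, hp, fun j hj => h'' j hj (by omega)⟩
  intro r
  induction r with
  | zero =>
    intro h1
    refine ⟨fun i => if i = 0 then p0 else 0, if_pos rfl, fun i hi => if_neg (by omega), fun j hj hj' => ?_⟩
    obtain rfl : j = L - 1 := by omega
    simp only [hG]
    rw [sum_eq_single 0, sum_eq_single 0]
    · simp only [if_pos, mul_zero, add_zero, show L - 1 + 1 = L by omega]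
      exact h0 (by omega)
    all_goals first
      | (intro i _ hi; simp [hi])
      | (intro h; exact absurd (mem_range.2 (by omega : 0 < L)) h)
  | succ r ih =>
    intro h1
    obtain ⟨p, hp0, hp, hG'⟩ := ih (by omega)
    set J := L - 1 - (r + 1) with hJ
    set e := (t J - G p J) / c L with he
    set q : ℕ → F := Function.update p (r + 1) e with hq
    have hmem : r + 1 ∈ range L := mem_range.2 (by omega)
    have hdiff : ∀ j, J ≤ j → j < L → G q j = G p j + (if j = J then e * c L else 0) := by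
      intro j hj hjL
      have e0 : p (r + 1) = 0 := hp _ (by omega)
      simp only [hG]
      rw [← add_sum_erase _ _ hmem, ← add_sum_erase _ (fun i => p i ^ 2 * b (j + 2 * i)) hmem,
        ← add_sum_erase _ _ hmem, ← add_sum_erase _ (fun i => p i * c (j + 1 + i)) hmem,
        sum_congr rfl (f := fun i => q i ^ 2 * b (j + 2 * i)) (g := fun i => p i ^ 2 * b (j + 2 * i))
          (fun i hi => by rw [hq, Function.update_of_ne (ne_of_mem_erase hi)]),
        sum_congr rfl (f := fun i => q i * c (j + 1 + i)) (g := fun i => p i * c (j + 1 + i))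
          (fun i hi => by rw [hq, Function.update_of_ne (ne_of_mem_erase hi)]), e0,
        hb _ (show L ≤ j + 2 * (r + 1) by omega)]
      rw [hq, Function.update_self]
      split_ifs with hjJ
      · rw [show j + 1 + (r + 1) = L by omega]; ring
      · rw [hc _ (show L < j + 1 + (r + 1) by omega)]; ring
    refine ⟨q, by rw [hq, Function.update_of_ne (by omega)]; exact hp0, fun i hi => ?_, fun j hj hj' => ?_⟩
    · rw [hq, Function.update_of_ne (by omega)]; exact hp i (by omega)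
    rw [hdiff j (by omega) hj]
    split_ifs with hjJ
    · subst hjJ
      rw [he, div_mul_cancel₀ _ hcL, add_sub_cancel]
    · rw [add_zero]; exact hG' j hj (by omega)

/-- Moving `x` along translates of `w` to reach prescribed data. -/
theorem adjust {L : ℕ} (x w : V) (t : ℕ → F) (hb : ∀ j, L ≤ j → C.f w j = 0)
    (hc : ∀ j, L < j → C.B ((C.Z ^ j) x) w = 0) (hcL : C.B ((C.Z ^ L) x) w ≠ 0)
    (ht : ∀ j, L ≤ j → C.f x j = t j) (p0 : F)
    (h0 : 1 ≤ L → C.f x (L - 1) + p0 ^ 2 * C.f w (L - 1) + p0 * C.B ((C.Z ^ L) x) w = t (L - 1)) :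
    ∃ p : ℕ → F, p 0 = p0 ∧ ∀ j, C.f (x + C.comb L p w) j = t j := by
  obtain ⟨p, hp0, hp⟩ := exists_solution (fun j => C.f x j) (fun j => C.f w j)
    (fun j => C.B ((C.Z ^ j) x) w) t hb hc hcL p0 h0
  refine ⟨p, hp0, fun j => ?_⟩
  rw [f_add_comb]
  rcases Nat.lt_or_ge j L with hj | hj
  · exact hp j hj
  · rw [sum_eq_zero fun i _ => by rw [hb _ (by omega), mul_zero],
      sum_eq_zero fun i _ => by rw [hc _ (by omega), mul_zero], add_zero, add_zero, ht j hj]

/-! ## Heights -/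

theorem Z_eq : C.Z = C.W * C.N ^ 2 := LinearMap.ext fun x => by
  rw [Module.End.mul_apply, pow_two, Module.End.mul_apply]
  refine (C.W_φ _).symm.trans (congrArg C.W ?_)
  rw [C.NN, ← map_add, show x + C.N x = C.φ x by rw [C.N_apply, add_comm, add_assoc, C.vadd_self, add_zero],
    ← Module.End.mul_apply C.φ, C.commute_φZ.eq, Module.End.mul_apply]

theorem Zpow_N (j e : ℕ) (x : V) : (C.Z ^ j) ((C.N ^ e) x) = (C.W ^ j) ((C.N ^ (2 * j + e)) x) := by
  rw [C.Z_eq, (C.commute_WN.pow_right 2).mul_pow, ← pow_mul, Module.End.mul_apply, ← Module.End.mul_apply _ (C.N ^ e),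
    ← pow_add]

theorem W_fix {z : V} (hz : C.N z = 0) (k : ℕ) : (C.W ^ k) z = z := by
  have h1 : C.W z = z := by
    have : C.φ z = z := by
      have h := C.N_apply z
      rw [hz] at h
      rw [← C.vneg_eq z, eq_neg_iff_add_eq_zero, C.vneg_eq]; exact h.symm
    conv_lhs => rw [← this]
    exact C.W_φ z
  induction k with
  | zero => rfl
  | succ k ih => rw [pow_succ, Module.End.mul_apply, h1, ih]

theorem Npow_zero {x : V} {m i : ℕ} (h : (C.N ^ m) x = 0) (hi : m ≤ i) : (C.N ^ i) x = 0 := by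
  rw [show i = (i - m) + m by omega, pow_add, Module.End.mul_apply, h, map_zero]

theorem E_zero {x : V} {m i : ℕ} (h : (C.N ^ m) x = 0) (hi : m ≤ i) : C.E i x = 0 := by
  rw [E, Module.End.mul_apply, C.Zpow_N, C.Npow_zero h (by omega), map_zero]

theorem E_top {x : V} {m : ℕ} (h : (C.N ^ (m + 1)) x = 0) : C.E m x = (C.N ^ m) x := by
  rw [E, Module.End.mul_apply, C.Zpow_N, show 2 * (m / 2) + m % 2 = m by omega,
    C.W_fix (by rw [← Module.End.mul_apply, ← pow_succ']; exact h)]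

theorem Npow_E {x : V} {m i k : ℕ} (h : (C.N ^ (m + 1)) x = 0) (hk : k + i = m) :
    (C.N ^ k) (C.E i x) = (C.N ^ m) x := by
  rw [E, Module.End.mul_apply, C.Zpow_N, ← Module.End.mul_apply (C.N ^ k),
    ((C.commute_WN.pow_left _).pow_right k).eq.symm, Module.End.mul_apply, ← Module.End.mul_apply (C.N ^ k),
    ← pow_add, show k + (2 * (i / 2) + i % 2) = m by omega, C.W_fix]
  rw [← Module.End.mul_apply, ← pow_succ']; exact h

theorem Npow_E_zero {x : V} {m i k : ℕ} (h : (C.N ^ m) x = 0) (hk : m ≤ k + i) : (C.N ^ k) (C.E i x) = 0 := by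
  rw [E, Module.End.mul_apply, C.Zpow_N, ← Module.End.mul_apply (C.N ^ k),
    ((C.commute_WN.pow_left _).pow_right k).eq.symm, Module.End.mul_apply, ← Module.End.mul_apply (C.N ^ k),
    ← pow_add, C.Npow_zero h (by omega), map_zero]

theorem E_even (j : ℕ) (x : V) : C.E (2 * j) x = (C.Z ^ j) x := by
  rw [E, show 2 * j / 2 = j by omega, show 2 * j % 2 = 0 by omega, pow_zero, mul_one]

theorem E_odd (j : ℕ) (x : V) : C.E (2 * j + 1) x = (C.Z ^ j) (C.N x) := by
  rw [E, show (2 * j + 1) / 2 = j by omega, show (2 * j + 1) % 2 = 1 by omega, pow_one, Module.End.mul_apply]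

/-- The top pairing is symmetric. -/
theorem top_symm {m : ℕ} {x y : V} (hy : (C.N ^ (m + 1)) y = 0) :
    C.B ((C.N ^ m) x) y = C.B ((C.N ^ m) y) x := by
  have h1 : ∀ k : ℕ, ∀ x y, C.B ((C.N ^ k) x) y = C.B x ((C.W ^ k) ((C.N ^ k) y)) := by
    intro k
    induction k with
    | zero => intro x y; rfl
    | succ k ih =>
      intro x y
      have e : ∀ x y, C.B (C.N x) y = C.B x (C.W (C.N y)) := fun x y => by
        rw [N_apply, N_apply, map_add, LinearMap.add_apply, C.adjφ, map_add C.W, C.W_φ, map_add, add_comm]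
      rw [pow_succ, Module.End.mul_apply, ih, e, pow_succ', Module.End.mul_apply,
        ← Module.End.mul_apply C.N (C.W ^ k), ← (C.commute_WN.pow_left k).eq, Module.End.mul_apply,
        ← Module.End.mul_apply C.N (C.N ^ k), ← pow_succ', pow_succ', ← pow_succ, pow_succ']
  rw [h1, C.W_fix (by rw [← Module.End.mul_apply, ← pow_succ']; exact hy), C.symm]

theorem f_high {x : V} {m j : ℕ} (h : (C.N ^ m) x = 0) (hj : m ≤ 2 * j + 1) : C.f x j = 0 := by
  rw [f_eq_N, ← E_odd, C.E_zero h hj, map_zero, LinearMap.zero_apply]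

theorem pair_high {x : V} {m j : ℕ} (h : (C.N ^ m) x = 0) (hj : m ≤ 2 * j) (y : V) :
    C.B ((C.Z ^ j) x) y = 0 := by
  rw [← E_even, C.E_zero h hj, map_zero, LinearMap.zero_apply]

theorem f_top {x : V} {k : ℕ} (h : (C.N ^ (2 * k + 2)) x = 0) : C.f x k = C.B ((C.N ^ (2 * k + 1)) x) x := by
  rw [f_eq_N, ← E_odd, C.E_top h]

end Ctx

end Cfsg.Agent.SympTwo
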